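import Cfsg.Agent.Lib.Invol.SECriterion.Cube.Base
import Mathlib.GroupTheory.Transfer

/-!
# The regular two-group does not contain the bad involution

Otherwise it is a Sylow subgroup of the group of `x`, elementary modulo the line, and the transfer into
that quotient is trivial on the members but not on the central `x`.
-/

set_option autoImplicit false
set_option linter.style.haveILetI false

namespace CfsgLib.SECrit

open CfsgLib.Invol Subgroup

universe u

variable {G : Type u} [Group G] [Finite G] {M : Subgroup G} {z : G}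

/-- **`x` lies outside its regular two-group.** -/
theorem Setup.cube_notMem (h : Setup M z) (hloc : ∀ x : G, IsBad M x → Local M z x) {x : G} (hx : IsBad M x)
    {p q₀ : G ⧸ M} (hxp : x • p = p) (hq₀ : q₀ ≠ p) (hxq₀ : x • q₀ = q₀)
    (ha : 2 ≤ Nat.card (CAt z ({x} : Set G) p)) {β : ℕ} (hβ2 : 2 ≤ β)
    (hk : Nat.card {c : G ⧸ M // x • c = c} = 2 ^ (β * 3) + 1) {P : Subgroup G}
    (hd : RegData M z x p P)
    (htwo : ∀ (g : G) (k : ℕ), g ^ 2 ^ k = 1 → g ∈ twoPt x p q₀ → g = 1 ∨ g = x) : x ∉ P := by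
  classical
  intro hxP
  haveI : Fact (Nat.Prime 2) := ⟨Nat.prime_two⟩
  have hl := hloc x hx
  set E := lineGrp z x p with hE
  set L := locGroup z x with hL
  have hPL : P ≤ L := fun g hg => ((hd.mem g).1 hg).1
  have hxL : x ∈ L := hPL hxP
  have hxE : x ∉ E := by
    intro hh
    rcases (h.mem_lineGrp hl).1 hh with e | ⟨hc, -, -⟩
    · exact invol_ne_one hx.1 e
    · obtain ⟨-, r, s, hrs, hr, hs⟩ := hx
      exact hrs (h.crit.fix_unique hc hr hs)
  have hsq : ∀ v ∈ P, v * v ∈ E := fun v hv => h.sq_mem_line hloc hx hxp ha hd hq₀ hxq₀ htwo hv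
  set H : Subgroup L := P.subgroupOf L with hH
  set T : Subgroup L := (MulAction.stabilizer G p).subgroupOf L with hT
  -- `H` has odd index in `L`
  have hHT : H ≤ T := fun g hg => ((hd.mem (g : G)).1 hg).2.1
  have hTodd : Odd T.index := by
    letI : MulAction L {c : G ⧸ M // x • c = c} :=
      { smul := fun g c => ⟨(g : G) • c.1, smul_mem_fix (commute_of_mem_locGroup g.2) c.2⟩
        one_smul := fun c => Subtype.ext (one_smul G c.1)
        mul_smul := fun g g' c => Subtype.ext (mul_smul (g : G) (g' : G) c.1) }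
    haveI : MulAction.IsPretransitive L {c : G ⧸ M // x • c = c} := ⟨fun b c => by
      obtain ⟨g, hg, hgb⟩ := h.exists_loc_smul hx.1 b.2 c.2
      exact ⟨⟨g, hg⟩, Subtype.ext hgb⟩⟩
    rw [show T = MulAction.stabilizer L (⟨p, hxp⟩ : {c : G ⧸ M // x • c = c}) from
      Subgroup.ext fun g => ⟨fun hg => Subtype.ext hg, fun hg => congrArg Subtype.val hg⟩,
      MulAction.index_stabilizer_of_transitive L _, hk]
    exact (even_two.pow_of_ne_zero (by omega)).add_one
  have hodd : Odd H.index := by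
    rw [← relIndex_mul_index hHT]
    refine Odd.mul ?_ hTodd
    obtain ⟨ST⟩ : Nonempty (Sylow 2 T) := inferInstance
    have hle : (ST : Subgroup T) ≤ H.subgroupOf T := fun g hg => by
      obtain ⟨k, hk'⟩ := ST.2 ⟨g, hg⟩
      exact (hd.mem _).2 ⟨(g : L).2, g.2, k,
        congrArg (fun t : (ST : Subgroup T) => (((t : T) : L) : G)) hk'⟩
    show Odd (H.subgroupOf T).index
    have h2 : (H.subgroupOf T).index ∣ (ST : Subgroup T).index := index_dvd_of_le hle
    exact Nat.odd_iff.2 (Nat.two_dvd_ne_zero.1 fun h3 => ST.not_dvd_index (h3.trans h2))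
  -- the quotient by the line
  set N : Subgroup H := (E.subgroupOf L).subgroupOf H with hN
  haveI hNn : N.Normal := ⟨fun e he g => by
    show ((g * e * g⁻¹ : H) : L).1 ∈ E
    have he' : ((e : L) : G) ∈ E := he
    have : Commute ((e : L) : G) ((g : L) : G) := hd.comm _ he' _ g.2
    simp only [Subgroup.coe_mul, Subgroup.coe_inv]
    rwa [← this.eq, mul_inv_cancel_right]⟩
  have hexp : ∀ a : H ⧸ N, a * a = 1 := fun a => by
    induction a using QuotientGroup.induction_on with
    | H v =>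
      rw [← QuotientGroup.mk_mul, QuotientGroup.eq_one_iff]
      exact hsq _ v.2
  letI : CommGroup (H ⧸ N) :=
    { (inferInstance : Group (H ⧸ N)) with
      mul_comm := fun a b => by
        have inv : ∀ c : H ⧸ N, c⁻¹ = c := fun c => inv_eq_of_mul_eq_one_right (hexp c)
        calc a * b = (a * b)⁻¹ := (inv _).symm
          _ = b * a := by rw [mul_inv_rev, inv, inv] }
  let χ : H →* H ⧸ N := QuotientGroup.mk' N
  haveI : H.FiniteIndex := ⟨index_ne_zero_of_finite⟩
  -- the members transfer to one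
  have hgen1 : ∀ g : L, MonoidHom.transfer χ g = 1 := by
    have key : ∀ (d : G) (hd' : IsConj z d) (hxd : Commute x d),
        MonoidHom.transfer χ (⟨d, mem_locGroup hd' hxd⟩ : L) = 1 := by
      intro d hd' hxd
      letI := Fintype.ofFinite (Quotient (MulAction.orbitRel (zpowers (⟨d, mem_locGroup hd' hxd⟩ : L)) (L ⧸ H)))
      rw [MonoidHom.transfer_eq_prod_quotient_orbitRel_zpowers_quot]
      refine Finset.prod_eq_one fun q _ => ?_
      show (QuotientGroup.mk' N) _ = 1
      rw [QuotientGroup.mk'_apply, QuotientGroup.eq_one_iff]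
      set n := Function.minimalPeriod ((⟨d, mem_locGroup hd' hxd⟩ : L) • ·) q.out
      have hmem := QuotientGroup.out_conj_pow_minimalPeriod_mem H (⟨d, mem_locGroup hd' hxd⟩ : L) q.out
      show _ ∈ E
      set k : L := q.out.out
      show ((k⁻¹ * (⟨d, mem_locGroup hd' hxd⟩ : L) ^ n * k : L) : G) ∈ E
      have hmem' : ((k⁻¹ * (⟨d, mem_locGroup hd' hxd⟩ : L) ^ n * k : L) : G) ∈ P := hmem
      simp only [Subgroup.coe_mul, Subgroup.coe_inv, SubmonoidClass.coe_pow] at hmem' ⊢
      have hd2 := invol_mul_self (h.crit.orderOf_conj hd')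
      obtain ⟨j, hj | hj⟩ := Nat.even_or_odd' n <;> rw [hj] at hmem' ⊢
      · rw [pow_mul, pow_two, hd2, one_pow, mul_one, inv_mul_cancel]
        exact one_mem _
      · rw [pow_succ, pow_mul, pow_two, hd2, one_pow, one_mul] at hmem' ⊢
        refine (h.mem_lineGrp hl).2 (Or.inr ⟨hd'.trans (isConj_iff.2 ⟨(k : G)⁻¹, by group⟩), ?_, ?_⟩)
        · exact ((hd.mem _).1 hmem').2.1
        · exact commute_of_mem_locGroup (hPL hmem')
    intro g
    obtain ⟨g, hg⟩ := g
    induction hg using closure_induction with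
    | mem d hd' => exact key d hd'.1 hd'.2
    | one => exact map_one _
    | mul a b ha' hb' iha ihb =>
      rw [show (⟨a * b, mul_mem ha' hb'⟩ : L) = ⟨a, ha'⟩ * ⟨b, hb'⟩ from rfl, map_mul, iha, ihb, one_mul]
    | inv a ha' iha =>
      rw [show (⟨a⁻¹, inv_mem ha'⟩ : L) = (⟨a, ha'⟩ : L)⁻¹ from rfl, map_inv, iha, inv_one]
  -- the central `x` does not
  have hxc : ∀ g : L, (⟨x, hxL⟩ : L) * g = g * ⟨x, hxL⟩ := fun g =>
    Subtype.ext (commute_of_mem_locGroup g.2).eq
  have hkey : ∀ (k : ℕ) (g₀ : L), g₀⁻¹ * (⟨x, hxL⟩ : L) ^ k * g₀ ∈ H →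
      g₀⁻¹ * (⟨x, hxL⟩ : L) ^ k * g₀ = (⟨x, hxL⟩ : L) ^ k := fun k g₀ _ => by
    rw [mul_assoc, ((show Commute (⟨x, hxL⟩ : L) g₀ from hxc g₀).pow_left k).eq, inv_mul_cancel_left]
  have hVx := hgen1 ⟨x, hxL⟩
  rw [MonoidHom.transfer_eq_pow χ _ hkey] at hVx
  obtain ⟨i, hi⟩ := hodd
  have hxpow : (⟨x, hxL⟩ : L) ^ H.index = ⟨x, hxL⟩ := by
    rw [hi, pow_succ, pow_mul, pow_two, show (⟨x, hxL⟩ : L) * ⟨x, hxL⟩ = 1 from Subtype.ext (invol_mul_self hx.1),
      one_pow, one_mul]
  have hin : ∀ a : H, χ a = 1 → ((a : L) : G) ∈ E := fun a ha' => (QuotientGroup.eq_one_iff a).1 ha'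
  have hVx' : (((⟨x, hxL⟩ : L) ^ H.index : L) : G) ∈ E := hin _ hVx
  rw [hxpow] at hVx'
  exact hxE hVx'

end CfsgLib.SECrit
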