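import Cfsg.Agent.Lib.Invol.SECriterion.Cube.Uniform
import Cfsg.Agent.Lib.Invol.SECriterion.SmallType.Klein
import Cfsg.Agent.Lib.Invol.SECriterion.TWeak.Pair

/-!
# The strong embedding criterion: the bad involutions of a two-group centralizing a line

`R` is a two-group at `p` centralizing the members there commuting with `x`, in the type with `q ^ 3 + 1`
fixed points.  By the four group formula two of its bad involutions share no further fixed point, so
there are at most `(N - 1) / q ^ 3` of them; its other members are among the `m - a` members not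
commuting with `x`.
-/

set_option autoImplicit false
set_option linter.unusedSectionVars false
set_option linter.style.haveILetI false

namespace CfsgLib.SECrit

open CfsgLib.Invol Subgroup TWeak

universe u

variable {G : Type u} [Group G] [Finite G] {M : Subgroup G} {z : G}

/-- **The four group formula at a point**, for commuting involutions with a common member there. -/
theorem Crit.klein_formula (h : Crit M z) {y k d₀ : G} (hy : orderOf y = 2) (hk : orderOf k = 2)
    (hyk : Commute y k) {p b : G ⧸ M} (hpb : p ≠ b) (hyp : y • p = p) (hyb : y • b = b)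
    (hkp : k • p = p) (hkb : k • b = b) (hd₀ : IsConj z d₀) (hd₀p : d₀ • p = p)
    (hyd₀ : Commute y d₀) (hkd₀ : Commute k d₀) :
    deg M z * Nat.card (CAt z ({y, k} : Set G) p) ^ 2 =
      Nat.card (CAt z ({y} : Set G) p) * Nat.card (CAt z ({k} : Set G) p) *
        Nat.card (CAt z ({y * k} : Set G) p) := by
  classical
  set U := pairU p b with hU
  have hUn : ∀ g : G, g • p = p → g • b = b → ∀ t ∈ U, g * t * g⁻¹ ∈ U := fun g hgp hgb t ht =>
    (mem_normalizer_iff.1 (pairFix_le_normalizer (a := p) (b := b) ⟨hgp, hgb⟩) t).1 ht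
  have hconj : ∀ (g : G) (d : DAt z p), g • p = p → IsConj z (g * d.1 * g⁻¹) ∧ (g * d.1 * g⁻¹) • p = p :=
    fun g d hgp => ⟨d.2.1.trans (isConj_iff.2 ⟨g, rfl⟩), by
      rw [mul_smul, mul_smul, inv_smul_eq_iff.2 hgp.symm, d.2.2, hgp]⟩
  letI : MulAction U (DAt z p) :=
    { smul := fun t d => ⟨(t : G) * d.1 * (t : G)⁻¹, hconj t d (pairU_le t.2).1⟩
      one_smul := fun d => Subtype.ext (show ((1 : U) : G) * d.1 * ((1 : U) : G)⁻¹ = d.1 by simp)
      mul_smul := fun s t d => Subtype.ext (show ((s * t : U) : G) * d.1 * ((s * t : U) : G)⁻¹ =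
        (s : G) * ((t : G) * d.1 * (t : G)⁻¹) * (s : G)⁻¹ by simp [mul_assoc]) }
  have htr : ∀ d d' : DAt z p, ∃ t : U, t • d = d' := fun d d' => by
    obtain ⟨r, hr, hrd⟩ := exists_pairU_conj h hpb d.2.1 d'.2.1 d.2.2 d'.2.2
    exact ⟨⟨r, hr⟩, Subtype.ext hrd⟩
  have hinv : ∀ g : G, orderOf g = 2 → ∀ t : G, g * (g * t * g⁻¹) * g⁻¹ = t := fun g hg t => by
    rw [invol_inv hg, show g * (g * t * g) * g = (g * g) * t * (g * g) by group, invol_mul_self hg,
      one_mul, mul_one]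
  let aut : ∀ g : G, orderOf g = 2 → g • p = p → g • b = b → (U ≃* U) := fun g hg hgp hgb =>
    { toFun := fun t => ⟨g * t * g⁻¹, hUn g hgp hgb t t.2⟩
      invFun := fun t => ⟨g * t * g⁻¹, hUn g hgp hgb t t.2⟩
      left_inv := fun t => Subtype.ext (hinv g hg t)
      right_inv := fun t => Subtype.ext (hinv g hg t)
      map_mul' := fun s t => Subtype.ext
        (show g * ((s : G) * t) * g⁻¹ = g * s * g⁻¹ * (g * t * g⁻¹) by group) }
  let per : ∀ g : G, g • p = p → DAt z p → DAt z p := fun g hgp d => ⟨g * d.1 * g⁻¹, hconj g d hgp⟩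
  have hper : ∀ (g : G) (hgp : g • p = p) (d : DAt z p), per g hgp d = d ↔ Commute g d.1 :=
    fun g hgp d => by
    rw [Subtype.ext_iff]
    show g * d.1 * g⁻¹ = d.1 ↔ _
    rw [mul_inv_eq_iff_eq_mul]
    exact Iff.rfl
  have hcompat : ∀ (g : G) (hg : orderOf g = 2) (hgp : g • p = p) (hgb : g • b = b) (t : U) (d : DAt z p),
      per g hgp (t • d) = aut g hg hgp hgb t • per g hgp d := fun g hg hgp hgb t d => Subtype.ext (by
    show g * ((t : G) * d.1 * (t : G)⁻¹) * g⁻¹ =
      g * t * g⁻¹ * (g * d.1 * g⁻¹) * (g * t * g⁻¹)⁻¹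
    group)
  have hcard := Small.klein_card_set (odd_card_pairU p b) htr (aut y hy hyp hyb) (aut k hk hkp hkb)
    (fun t => Subtype.ext (hinv y hy t)) (fun t => Subtype.ext (hinv k hk t))
    (fun t => Subtype.ext (by
      show y * (k * (t : G) * k⁻¹) * y⁻¹ = k * (y * (t : G) * y⁻¹) * k⁻¹
      calc y * (k * (t : G) * k⁻¹) * y⁻¹ = (y * k) * t * (y * k)⁻¹ := by group
        _ = _ := by rw [hyk.eq]; group))
    (per y hyp) (per k hkp) (hcompat y hy hyp hyb) (hcompat k hk hkp hkb)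
    (fun d => Subtype.ext (by
      show y * (k * d.1 * k⁻¹) * y⁻¹ = k * (y * d.1 * y⁻¹) * k⁻¹
      calc y * (k * d.1 * k⁻¹) * y⁻¹ = (y * k) * d.1 * (y * k)⁻¹ := by group
        _ = _ := by rw [hyk.eq]; group))
    (j := (⟨d₀, hd₀, hd₀p⟩ : DAt z p)) ((hper y hyp _).2 hyd₀) ((hper k hkp _).2 hkd₀)
  have emem : ∀ (g : G) (hgp : g • p = p),
      Nat.card (Small.Fixed (per g hgp)) = Nat.card (CAt z ({g} : Set G) p) := fun g hgp =>
    Nat.card_congr
      { toFun := fun d => ⟨d.1.1, d.1.2.1, d.1.2.2, fun w hw => by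
          rw [Set.mem_singleton_iff.1 hw]; exact (hper g hgp d.1).1 d.2⟩
        invFun := fun u => ⟨⟨u.1, u.2.1, u.2.2.1⟩, (hper g hgp _).2 (u.2.2.2 g rfl)⟩
        left_inv := fun _ => rfl
        right_inv := fun _ => rfl }
  have eboth : Nat.card {d : DAt z p // per y hyp d = d ∧ per k hkp d = d} =
      Nat.card (CAt z ({y, k} : Set G) p) := Nat.card_congr
    { toFun := fun d => ⟨d.1.1, d.1.2.1, d.1.2.2, fun w hw => by
        rcases hw with rfl | rfl
        exacts [(hper _ hyp d.1).1 d.2.1, (hper _ hkp d.1).1 d.2.2]⟩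
      invFun := fun u => ⟨⟨u.1, u.2.1, u.2.2.1⟩, (hper y hyp _).2 (u.2.2.2 y (Or.inl rfl)),
        (hper k hkp _).2 (u.2.2.2 k (Or.inr rfl))⟩
      left_inv := fun _ => rfl
      right_inv := fun _ => rfl }
  have hykp : (y * k) • p = p := by rw [mul_smul, hkp, hyp]
  have e3 : Nat.card {d : DAt z p // per y hyp (per k hkp d) = d} =
      Nat.card (CAt z ({y * k} : Set G) p) := by
    rw [← emem (y * k) hykp]
    refine Nat.card_congr (Equiv.subtypeEquivRight fun d => ?_)
    rw [show per y hyp (per k hkp d) = per (y * k) hykp d from Subtype.ext (by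
      show y * (k * d.1 * k⁻¹) * y⁻¹ = y * k * d.1 * (y * k)⁻¹
      group)]
  rw [eboth, e3, emem y hyp, emem k hkp, card_DAt] at hcard
  exact hcard

variable (h : Setup M z) (hgen : normalClosure ({z} : Set G) = ⊤)
  (hloc : ∀ x : G, IsBad M x → Local M z x) {x : G} (hx : IsBad M x) {p : G ⧸ M} (hxp : x • p = p)
  (ha : 2 ≤ Nat.card (CAt z ({x} : Set G) p)) (hlt : Nat.card (CAt z ({x} : Set G) p) < deg M z)
  {β : ℕ} (hβ : Nat.card (CAt z ({x} : Set G) p) + 1 = 2 ^ β) (hβ2 : 2 ≤ β)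
  (hk : Nat.card {c : G ⧸ M // x • c = c} = 2 ^ (β * 3) + 1)
  {q₀ : G ⧸ M} (hq₀ : q₀ ≠ p) (hxq₀ : x • q₀ = q₀) {P : Subgroup G} (hP : IsPGroup 2 P)
  (hPx : P ≤ twoPt x p q₀)
  (hmax : ∀ (T : Subgroup G) (c : G ⧸ M), IsPGroup 2 T → c ≠ p → (∀ g ∈ T, g • p = p ∧ g • c = c) →
    Nat.card T ≤ Nat.card P)
  {R : Subgroup G} (hR : IsPGroup 2 R) (hRp : ∀ g ∈ R, g • p = p)
  (hRE : ∀ g ∈ R, ∀ d : G, IsConj z d → d • p = p → Commute x d → Commute g d)

include h hgen hloc hx hxp ha hlt hβ hβ2 hk hq₀ hxq₀ hP hPx hmax hRp hRE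

/-- A bad involution of `R` centralizes the same members as `x` and has as many fixed points. -/
theorem Setup.cube_bad_mem {y : G} (hyR : y ∈ R) (hy : IsBad M y) :
    Nat.card (CAt z ({y} : Set G) p) = Nat.card (CAt z ({x} : Set G) p) ∧
      Nat.card {c : G ⧸ M // y • c = c} = 2 ^ (β * 3) + 1 :=
  h.cube_uniform hgen hloc hx hxp ha hlt hβ hβ2 hk hq₀ hxq₀ hP hPx hmax hy (hRp y hyR)
    (Nat.card_le_card_of_injective
      (fun d : CAt z ({x} : Set G) p => (⟨d.1, d.2.1, d.2.2.1, fun w hw => by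
        rw [Set.mem_singleton_iff.1 hw]
        exact hRE y hyR d.1 d.2.1 d.2.2.1 (d.2.2.2 x rfl)⟩ : CAt z ({y} : Set G) p))
      fun d d' e => Subtype.ext (congrArg (fun t : CAt z ({y} : Set G) p => t.1) e))

/-- Distinct commuting bad involutions of `R` have no common fixed point other than `p`. -/
theorem Setup.cube_false_of_commute {y k : G} (hyR : y ∈ R) (hkR : k ∈ R) (hy : IsBad M y) (hkb' : IsBad M k)
    (hyk : Commute y k) (hne : y ≠ k) {b : G ⧸ M} (hb : b ≠ p) (hyb : y • b = b) (hkb : k • b = b) : False := by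
  have hc : IsBad M (y * k) := ⟨invol_iff.2 ⟨by
      rw [hyk.symm.mul_mul_mul_comm, invol_mul_self hy.1, invol_mul_self hkb'.1, one_mul],
      fun e => hne ((eq_inv_of_mul_eq_one_left e).trans (invol_inv hkb'.1))⟩, b, p, hb,
    by rw [mul_smul, hkb, hyb], by rw [mul_smul, hRp k hkR, hRp y hyR]⟩
  have ey := (h.cube_bad_mem hgen hloc hx hxp ha hlt hβ hβ2 hk hq₀ hxq₀ hP hPx hmax hRp hRE hyR hy).1
  have ek := (h.cube_bad_mem hgen hloc hx hxp ha hlt hβ hβ2 hk hq₀ hxq₀ hP hPx hmax hRp hRE hkR hkb').1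
  have ec := (h.cube_bad_mem hgen hloc hx hxp ha hlt hβ hβ2 hk hq₀ hxq₀ hP hPx hmax hRp hRE
    (mul_mem hyR hkR) hc).1
  have eyk : Nat.card (CAt z ({y, k} : Set G) p) = Nat.card (CAt z ({x} : Set G) p) := by
    refine le_antisymm (ey ▸ Nat.card_le_card_of_injective
      (fun d : CAt z ({y, k} : Set G) p => (⟨d.1, d.2.1, d.2.2.1, fun w hw => by
        rw [Set.mem_singleton_iff.1 hw]; exact d.2.2.2 y (Or.inl rfl)⟩ : CAt z ({y} : Set G) p))
      fun d d' e => Subtype.ext (congrArg (fun t : CAt z ({y} : Set G) p => t.1) e)) ?_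
    refine Nat.card_le_card_of_injective
      (fun d : CAt z ({x} : Set G) p => (⟨d.1, d.2.1, d.2.2.1, fun w hw => by
        rcases hw with rfl | rfl
        exacts [hRE _ hyR d.1 d.2.1 d.2.2.1 (d.2.2.2 x rfl),
          hRE _ hkR d.1 d.2.1 d.2.2.1 (d.2.2.2 x rfl)]⟩ : CAt z ({y, k} : Set G) p))
      fun d d' e => Subtype.ext (congrArg (fun t : CAt z ({y, k} : Set G) p => t.1) e)
  obtain ⟨⟨d₀, hd₀, hd₀p, hxd₀⟩, -, -⟩ :=
    (Finite.one_lt_card_iff_nontrivial.1
      (show 1 < Nat.card (CAt z ({x} : Set G) p) by omega)).exists_pair_ne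
  have key := h.crit.klein_formula hy.1 hkb'.1 hyk hb.symm (hRp y hyR) hyb (hRp k hkR) hkb hd₀ hd₀p
    (hRE y hyR d₀ hd₀ hd₀p (hxd₀ x rfl)) (hRE k hkR d₀ hd₀ hd₀p (hxd₀ x rfl))
  rw [eyk, ey, ek, ec, sq] at key
  have hpos : 0 < Nat.card (CAt z ({x} : Set G) p) * Nat.card (CAt z ({x} : Set G) p) :=
    Nat.mul_pos (by omega) (by omega)
  exact hlt.ne (Nat.eq_of_mul_eq_mul_right hpos (key.trans (by ring))).symm

include hR

/-- **Disjointness**: two bad involutions of `R` share no fixed point other than `p`. -/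
theorem Setup.cube_disjoint {y k : G} (hyR : y ∈ R) (hkR : k ∈ R) (hy : IsBad M y) (hkb' : IsBad M k)
    {b : G ⧸ M} (hb : b ≠ p) (hyb : y • b = b) (hkb : k • b = b) : y = k := by
  by_contra hne
  have hcom := fun {c : G} (hcR : c ∈ R) (hc : IsBad M c) (hyc : Commute y c) (hne' : y ≠ c)
      (hcb : c • b = b) =>
    h.cube_false_of_commute hgen hloc hx hxp ha hlt hβ hβ2 hk hq₀ hxq₀ hP hPx hmax hRp hRE
      hyR hcR hy hc hyc hne' hb hyb hcb
  have hnc : ¬ Commute y k := fun hc => hcom hkR hkb' hc hne hkb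
  obtain ⟨s, hs⟩ := hR ⟨y * k, mul_mem hyR hkR⟩
  have hs' : (y * k) ^ 2 ^ s = 1 := congrArg Subtype.val hs
  have hne1 : y * k ≠ 1 := fun e => hne ((eq_inv_of_mul_eq_one_left e).trans (invol_inv hkb'.1))
  obtain ⟨t, -, ht⟩ := (Nat.dvd_prime_pow Nat.prime_two).1 (orderOf_dvd_of_pow_eq_one hs')
  have heven : Even (orderOf (y * k)) := by
    rcases t with - | t
    · exact absurd (orderOf_eq_one_iff.1 (by rw [ht, pow_zero])) hne1
    · exact ⟨2 ^ t, by rw [ht, pow_succ]; ring⟩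
  set c := (y * k) ^ (orderOf (y * k) / 2) with hc
  have hco : orderOf c = 2 := orderOf_pow_half heven
  have hcy : Commute c y := commute_pow_half (invol_conj_mul hy.1 hkb'.1) heven
  have hck : Commute c k := commute_pow_half (invol_conj_mul' hy.1 hkb'.1) heven
  have hcR : c ∈ R := pow_mem (mul_mem hyR hkR) _
  have hfix : ∀ a : G ⧸ M, y • a = a → k • a = a → c • a = a := fun a h1 h2 => by
    have : y * k ∈ MulAction.stabilizer G a := MulAction.mem_stabilizer_iff.2 (by rw [mul_smul, h2, h1])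
    exact MulAction.mem_stabilizer_iff.1 (pow_mem this _)
  have hcb := hfix b hyb hkb
  have hcbad : IsBad M c := ⟨hco, b, p, hb, hcb, hfix p (hRp y hyR) (hRp k hkR)⟩
  by_cases hyc : y = c
  · exact hnc (hyc.symm ▸ hck)
  · exact hcom hcR hcbad hcy.symm hyc hcb

/-- **The bad involutions of `R`** have at most `(N - 1) / q ^ 3` elements. -/
theorem Setup.cube_count :
    Nat.card {u : R // IsBad M (u : G)} * 2 ^ (β * 3) ≤ Nat.card {c : G ⧸ M // c ≠ p} := by
  classical
  letI := Fintype.ofFinite {u : R // IsBad M (u : G)}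
  have hcard : ∀ u : {u : R // IsBad M (u : G)},
      Nat.card {c : G ⧸ M // (u.1 : G) • c = c ∧ c ≠ p} = 2 ^ (β * 3) := fun u => by
    have h2 := Set.ncard_sdiff_singleton_add_one (a := p) (s := {c : G ⧸ M | (u.1 : G) • c = c})
      (hRp _ u.1.2) (Set.toFinite _)
    rw [← Nat.card_coe_set_eq, ← Nat.card_coe_set_eq] at h2
    have h3 := (h.cube_bad_mem hgen hloc hx hxp ha hlt hβ hβ2 hk hq₀ hxq₀ hP hPx hmax hRp hRE u.1.2 u.2).2
    show Nat.card ↑({c : G ⧸ M | (u.1 : G) • c = c} \ {p}) = _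
    change _ = Nat.card {c : G ⧸ M // (u.1 : G) • c = c} at h2
    omega
  calc Nat.card {u : R // IsBad M (u : G)} * 2 ^ (β * 3)
      = Nat.card (Σ u : {u : R // IsBad M (u : G)}, {c : G ⧸ M // (u.1 : G) • c = c ∧ c ≠ p}) := by
        rw [Nat.card_sigma, Finset.sum_congr rfl (fun u _ => hcard u), Finset.sum_const, smul_eq_mul,
          Finset.card_univ, Nat.card_eq_fintype_card]
    _ ≤ _ := Nat.card_le_card_of_injective (fun w => (⟨w.2.1, w.2.2.2⟩ : {c : G ⧸ M // c ≠ p})) (by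
        rintro ⟨u, c, hc, hcp⟩ ⟨u', c', hc', hcp'⟩ e
        obtain rfl : c = c' := congrArg (fun t : {c : G ⧸ M // c ≠ p} => t.1) e
        obtain rfl : u = u' := Subtype.ext (Subtype.ext
          (h.cube_disjoint hgen hloc hx hxp ha hlt hβ hβ2 hk hq₀ hxq₀ hP hPx hmax hR hRp hRE
            u.1.2 u'.1.2 u.2 u'.2 hcp hc hc'))
        rfl)

omit hR in
/-- **The members of `R` off the line** are among the `m - a` members not commuting with `x`. -/
theorem Setup.cube_members :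
    Nat.card {u : R // IsConj z (u : G) ∧ ¬ Commute x (u : G)} + Nat.card (CAt z ({x} : Set G) p) ≤
      deg M z := by
  rw [← card_DAt (z := z) p, ← Nat.card_sum]
  refine Nat.card_le_card_of_injective
    (Sum.elim (fun u => (⟨(u.1 : G), u.2.1, hRp _ u.1.2⟩ : DAt z p)) fun d => ⟨d.1, d.2.1, d.2.2.1⟩) ?_
  rintro (u | d) (u' | d') e <;> replace e := congrArg (fun t : DAt z p => t.1) e <;> simp only [Sum.elim_inl, Sum.elim_inr] at e
  · exact congrArg Sum.inl (Subtype.ext (Subtype.ext e))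
  · exact absurd (e ▸ d'.2.2.2 x rfl) u.2.2
  · exact absurd (e ▸ d.2.2.2 x rfl) u'.2.2
  · exact congrArg Sum.inr (Subtype.ext e)

end CfsgLib.SECrit
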