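import Cfsg.Agent.Lib.Invol.SECriterion.Cube.Main
import Cfsg.Agent.Lib.Invol.SECriterion.Cube.NotMem
import Cfsg.Agent.Lib.Invol.SECriterion.Shape.KernelPart

/-!
# The strong embedding criterion, small type: the residue with `q ^ 3 + 1` fixed points
-/

set_option autoImplicit false
set_option linter.style.haveILetI false

namespace CfsgLib.SECrit

open CfsgLib.Invol Subgroup

universe u

variable {G : Type u} [Group G] [Finite G] {M : Subgroup G} {z : G}

/-- **The small type with `q ^ 3 + 1` fixed points does not occur.** -/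
theorem Setup.noSmallCube (h : Setup M z) (hgen : normalClosure ({z} : Set G) = ⊤) : NoSmallCube M z := by
  intro hloc x p q₀ P β hx hxp hq₀ hxq₀ hP hPx hmax hβ hβ2 hlt hk
  have hq4 : 2 ^ 2 ≤ 2 ^ β := Nat.pow_le_pow_right (by norm_num) hβ2
  have ha : 2 ≤ Nat.card (CAt z ({x} : Set G) p) := by omega
  have htwo := h.two_elem_le hgen hloc hx hxp ha hlt hβ hβ2 hk hq₀ hxq₀ hP hPx hmax hq₀ hxq₀
  exact h.cube_false_of_kernel hgen hloc hx hxp ha hlt hβ hβ2 hk hq₀ hxq₀ hP hPx hmax htwo
    fun Q hQ => h.cube_notMem hloc hx hxp hq₀ hxq₀ ha hβ2 hk hQ htwo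

end CfsgLib.SECrit
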