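import Cfsg.Agent.Lib.Invol.SECriterion.Cube.Regular
import Cfsg.Agent.Lib.Invol.SECriterion.Shape.SquareForm
import Cfsg.Agent.Lib.Invol.SECriterion.SmallCount

/-!
# The regular two-group of a bad involution: exact squares

If `x` is the only non-trivial two-element centralizing it and fixing `p` and `q₀`, then every square in
the regular two-group lies in the line: a square `e x` would translate to a square `x`.
-/

set_option autoImplicit false
set_option linter.style.haveILetI false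

namespace CfsgLib.SECrit

open CfsgLib.Invol Subgroup

universe u

variable {G : Type u} [Group G] [Finite G] {M : Subgroup G} {z : G}

theorem RegData.two {x : G} {p : G ⧸ M} {P : Subgroup G} (hd : RegData M z x p P) : IsPGroup 2 P :=
  fun g => ((hd.mem g).1 g.2).2.2.imp fun k hk => Subtype.ext (by rwa [SubmonoidClass.coe_pow, coe_one])

theorem RegData.conj {x : G} {p : G ⧸ M} {P : Subgroup G} (hd : RegData M z x p P) {c : G}
    (hxc : Commute x c) (hcp : c • p = p) {g : G} (hg : g ∈ P) : c * g * c⁻¹ ∈ P := by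
  obtain ⟨hgL, hgp, k, hk⟩ := (hd.mem g).1 hg
  refine (hd.mem _).2 ⟨?_, by rw [mul_smul, mul_smul, inv_smul_eq_iff.2 hcp.symm, hgp, hcp], k, ?_⟩
  · clear hgp hk hg
    induction hgL using closure_induction with
    | mem d hd' =>
      exact mem_locGroup (hd'.1.trans (isConj_iff.2 ⟨c, rfl⟩)) ((hxc.mul_right hd'.2).mul_right hxc.inv_right)
    | one => simp
    | mul a b _ _ iha ihb =>
      rw [show c * (a * b) * c⁻¹ = c * a * c⁻¹ * (c * b * c⁻¹) by group]; exact mul_mem iha ihb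
    | inv a _ iha => rw [show c * a⁻¹ * c⁻¹ = (c * a * c⁻¹)⁻¹ by group]; exact inv_mem iha
  · rw [conj_pow, hk, mul_one, mul_inv_cancel]

theorem RegData.commute {x : G} {p : G ⧸ M} {P : Subgroup G} (hd : RegData M z x p P) {g : G}
    (hg : g ∈ P) : Commute x g :=
  commute_of_mem_locGroup ((hd.mem g).1 hg).1

variable {x : G} {p q₀ : G ⧸ M} {P : Subgroup G}

/-- A two-element centralizing `x` at `p` lies in `P` or in `x P`. -/
theorem RegData.mem_or (hd : RegData M z x p P) (hxx : x * x = 1) (hxp : x • p = p) (hq₀ : q₀ ≠ p) (hxq₀ : x • q₀ = q₀)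
    (htwo : ∀ (g : G) (k : ℕ), g ^ 2 ^ k = 1 → g ∈ twoPt x p q₀ → g = 1 ∨ g = x)
    {u : G} {k : ℕ} (huk : u ^ 2 ^ k = 1) (hxu : Commute x u) (hup : u • p = p) :
    u ∈ P ∨ x * u ∈ P := by
  haveI : Fact (Nat.Prime 2) := ⟨Nat.prime_two⟩
  have hu2 : IsPGroup 2 (zpowers u) := by
    rintro ⟨_, i, rfl⟩
    exact ⟨k, Subtype.ext (show (u ^ i) ^ 2 ^ k = 1 by
      rw [← zpow_natCast, zpow_comm, zpow_natCast, huk, one_zpow])⟩
  have hn : zpowers u ≤ normalizer (P : Set G) := zpowers_le.2 (mem_normalizer_iff.2 fun g =>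
    ⟨fun hg => hd.conj hxu hup hg, fun hg => by
      have h1 := hd.conj hxu.inv_right (inv_smul_eq_iff.2 hup.symm) hg
      rwa [show u⁻¹ * (u * g * u⁻¹) * u⁻¹⁻¹ = g by group] at h1⟩)
  have hT : IsPGroup 2 (zpowers u ⊔ P : Subgroup G) := IsPGroup.to_sup_of_normal_right' hu2 hd.two hn
  obtain ⟨w, hw, hwq⟩ := hd.trans q₀ (u • q₀) hxq₀ (smul_mem_fix hxu hxq₀) hq₀
    fun e => hq₀ (smul_left_cancel u (e.trans hup.symm))
  obtain ⟨j, hj⟩ := hT ⟨w⁻¹ * u, mul_mem (inv_mem (mem_sup_right hw)) (mem_sup_left (mem_zpowers u))⟩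
  rcases htwo (w⁻¹ * u) j (congrArg Subtype.val hj) ⟨⟨mem_centralizer_singleton_iff.2
      ((hd.commute hw).inv_right.mul_right hxu).eq.symm, MulAction.mem_stabilizer_iff.2 (by
        rw [mul_smul, hup, inv_smul_eq_iff]; exact ((hd.mem w).1 hw).2.1.symm)⟩,
      MulAction.mem_stabilizer_iff.2 (by rw [mul_smul, ← hwq, inv_smul_smul])⟩ with e | e
  · exact Or.inl (inv_mul_eq_one.1 e ▸ hw)
  · refine Or.inr ?_
    have e1 : u = w * x := by rw [← e, mul_inv_cancel_left]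
    rw [e1, ← mul_assoc, (hd.commute hw).eq, mul_assoc, hxx, mul_one]
    exact hw

variable (h : Setup M z) (hloc : ∀ x : G, IsBad M x → Local M z x)
include h hloc

/-- A conjugate of `x` in the coset of the line keeps the line. -/
theorem Setup.conj_lineGrp (hx : IsBad M x) {g : G} (hgp : g • p = p)
    (hg : g * x * g⁻¹ * x ∈ lineGrp z x p) {d : G} (hd : d ∈ lineGrp z x p) :
    g * d * g⁻¹ ∈ lineGrp z x p := by
  have hl := hloc x hx
  rcases (h.mem_lineGrp hl).1 hd with rfl | ⟨hdz, hdp, hxd⟩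
  · simp
  have hxx := invol_mul_self hx.1
  have hd' : IsConj z (g * d * g⁻¹) := hdz.trans (isConj_iff.2 ⟨g, rfl⟩)
  have hd'p : (g * d * g⁻¹) • p = p := by rw [mul_smul, mul_smul, inv_smul_eq_iff.2 hgp.symm, hdp, hgp]
  have hc : Commute (g * x * g⁻¹) (g * d * g⁻¹) := hxd.conj g
  refine (h.mem_lineGrp hl).2 (Or.inr ⟨hd', hd'p, ?_⟩)
  rcases (h.mem_lineGrp hl).1 hg with e | ⟨hez, hep, hxe⟩
  · rwa [show g * x * g⁻¹ = x by rw [eq_inv_of_mul_eq_one_left e, invol_inv hx.1]] at hc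
  set e := g * x * g⁻¹ * x with he
  have hy : g * x * g⁻¹ = e * x := by rw [he, mul_assoc _ x x, hxx, mul_one]
  have hbad : IsBad M (g * x * g⁻¹) := by
    obtain ⟨hxo, r, s, hrs, hr, hs⟩ := hx
    refine ⟨invol_conj hxo g, g • r, g • s, fun e1 => hrs (smul_left_cancel g e1), ?_, ?_⟩
    · rw [mul_smul, inv_smul_smul, mul_smul, hr]
    · rw [mul_smul, inv_smul_smul, mul_smul, hs]
  have hye : Commute (g * x * g⁻¹) e := by rw [hy]; exact (Commute.refl e).mul_left hxe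
  have h1 : Commute e (g * d * g⁻¹) := (hloc _ hbad).comm_at e _ p hez hd' hye hc hep hd'p
  have h2 : Commute (e * (g * x * g⁻¹)) (g * d * g⁻¹) := h1.mul_left hc
  rwa [hy, ← mul_assoc, invol_mul_self (h.crit.orderOf_conj hez), one_mul] at h2

variable (hx : IsBad M x) (hxp : x • p = p) (ha : 2 ≤ Nat.card (CAt z ({x} : Set G) p))
include hx hxp ha

/-- Every element of the line is a translation of `x`. -/
theorem Setup.exists_translate {e : G} (he : e ∈ lineGrp z x p) :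
    ∃ k : G, k • p = p ∧ k * x * k⁻¹ = e * x := by
  rcases (h.mem_lineGrp (hloc x hx)).1 he with rfl | ⟨hez, hep, hxe⟩
  · exact ⟨1, one_smul _ _, by simp⟩
  obtain ⟨r, s, hrs, hr, hs⟩ := hx.2
  obtain ⟨⟨d₀, hd₀, hd₀p, hd₀x⟩, ⟨e₀, he₀, he₀p, he₀x⟩, hne⟩ :=
    (Finite.one_lt_card_iff_nontrivial.1 (show 1 < Nat.card (CAt z ({x} : Set G) p) by omega)).exists_pair_ne
  obtain ⟨u, hu⟩ := isConj_iff.1 (h.crit.isConj_mul_member h.hfree hx.1 hrs hr hs hd₀ he₀ (hd₀x x rfl)
    (he₀x x rfl) ((hloc x hx).comm_at d₀ e₀ p hd₀ he₀ (hd₀x x rfl) (he₀x x rfl) hd₀p he₀p)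
    (fun e1 => hne (Subtype.ext e1)) hez hxe)
  have hyo : orderOf (x * e) = 2 := hu ▸ invol_conj hx.1 u
  have hyp : (x * e) • p = p := by rw [mul_smul, hep, hxp]
  have hyu : (x * e) • (u • p) = u • p := by rw [← hu, smul_smul, inv_mul_cancel_right, mul_smul, hxp]
  obtain ⟨g, hgy, hgp⟩ : ∃ g : G, Commute (x * e) g ∧ g • (u • p) = p := by
    by_cases e1 : u • p = p
    · exact ⟨1, Commute.one_right _, by rw [one_smul, e1]⟩
    obtain ⟨g, -, hga, hgA⟩ := h.crit.exists_commuting_swap (Crit.isPGroup_zpowers_invol hyo) e1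
      (Crit.forall_zpowers_fix hyu) (Crit.forall_zpowers_fix hyp)
    exact ⟨g, hgA _ (mem_zpowers _), hga⟩
  refine ⟨g * u, by rw [mul_smul, hgp], ?_⟩
  rw [show g * u * x * (g * u)⁻¹ = g * (u * x * u⁻¹) * g⁻¹ by group, hu, ← hgy.eq, mul_inv_cancel_right, hxe.eq]

/-- **Squares lie in the line.** -/
theorem Setup.sq_mem_line (hd : RegData M z x p P) (hq₀ : q₀ ≠ p) (hxq₀ : x • q₀ = q₀)
    (htwo : ∀ (g : G) (k : ℕ), g ^ 2 ^ k = 1 → g ∈ twoPt x p q₀ → g = 1 ∨ g = x) {v : G} (hv : v ∈ P) :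
    v * v ∈ lineGrp z x p := by
  have hl := hloc x hx
  have hxx := invol_mul_self hx.1
  have hK : ∀ g ∈ P, g ∈ locKer M z x → g = 1 ∨ g = x := fun g hg hgK => by
    obtain ⟨hgL, hgp, k, hk⟩ := (hd.mem g).1 hg
    exact htwo g k hk ⟨⟨mem_centralizer_singleton_iff.2 (hd.commute hg).eq.symm,
      MulAction.mem_stabilizer_iff.2 hgp⟩, MulAction.mem_stabilizer_iff.2 ((mem_locKer.1 hgK).2 q₀ hxq₀)⟩
  obtain ⟨e, he, heK⟩ := hd.sq v hv
  have he2 : e * e = 1 := ((h.mem_lineGrp hl).1 he).elim (fun e1 => by rw [e1, one_mul])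
    fun hh => invol_mul_self (h.crit.orderOf_conj hh.1)
  rcases hK _ (mul_mem (hd.line_le he) (mul_mem hv hv)) heK with e1 | e1
  · rw [eq_inv_of_mul_eq_one_right e1]; exact inv_mem he
  exfalso
  have hvv : v * v = e * x := by rw [← e1, ← mul_assoc e e, he2, one_mul]
  obtain ⟨k, hkp, hk⟩ := h.exists_translate hloc hx hxp ha he
  obtain ⟨-, hvp, j, hj⟩ := (hd.mem v).1 hv
  set u := k⁻¹ * v * k with hu
  have huu : u * u = x := by
    rw [hu, show k⁻¹ * v * k * (k⁻¹ * v * k) = k⁻¹ * (v * v) * k by group, hvv, ← hk]; group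
  have hux : Commute x u := huu ▸ (Commute.refl u).mul_left (Commute.refl u)
  have hup : u • p = p := by
    rw [hu, mul_smul, mul_smul, hkp, hvp, inv_smul_eq_iff, hkp]
  have huk : u ^ 2 ^ j = 1 := by
    have := conj_pow (i := 2 ^ j) (a := k⁻¹) (b := v)
    rw [inv_inv] at this
    rw [hu, this, hj, mul_one, inv_mul_cancel]
  -- a root of `x` in `P`
  obtain ⟨w, hw, hww⟩ : ∃ w ∈ P, w * w = x := by
    rcases hd.mem_or hxx hxp hq₀ hxq₀ htwo huk hux hup with h1 | h1
    · exact ⟨u, h1, huu⟩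
    · exact ⟨x * u, h1, by rw [hux.symm.mul_mul_mul_comm, hxx, one_mul, huu]⟩
  have hwK : w * w ∈ locKer M z x := by
    have hwL := mul_mem ((hd.mem w).1 hw).1 ((hd.mem w).1 hw).1
    rw [hww] at hwL ⊢
    exact mem_locKer.2 ⟨hwL, fun b hb => hb⟩
  obtain ⟨f, hf, hfK⟩ := hd.invol w hw hwK
  have hf2 : f * f = 1 := ((h.mem_lineGrp hl).1 hf).elim (fun e1 => by rw [e1, one_mul])
    fun hh => invol_mul_self (h.crit.orderOf_conj hh.1)
  have hfx : Commute f x := ((h.mem_lineGrp hl).1 hf).elim (fun e1 => e1 ▸ Commute.one_left x)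
    fun hh => hh.2.2.symm
  have hwx : w * w = 1 := by
    rcases hK _ (mul_mem (hd.line_le hf) hw) hfK with e2 | e2
    · rw [eq_inv_of_mul_eq_one_right e2, inv_eq_of_mul_eq_one_right hf2, hf2]
    · rw [show w = f * x by rw [← e2, ← mul_assoc, hf2, one_mul], hfx.symm.mul_mul_mul_comm, hf2, hxx, one_mul]
  exact invol_ne_one hx.1 (hww.symm.trans hwx)

omit hloc ha in
/-- With trivial kernel part, `P` carries the square form. -/
theorem Setup.sqForm (hl : Local M z x) (hd : RegData M z x p P) {β : ℕ}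
    (hβ : Nat.card (CAt z ({x} : Set G) p) + 1 = 2 ^ β) (hβ2 : 2 ≤ β)
    (hker : ∀ g ∈ P, g ∈ locKer M z x → g = 1) (hsq : ∀ v ∈ P, v * v ∈ lineGrp z x p) :
    Shape.SqForm ((lineGrp z x p).subgroupOf P) ∧
      Nat.card ((lineGrp z x p).subgroupOf P) = 2 ^ β ∧ Nat.card P = 2 ^ (β * 3) := by
  have hE2 : ∀ g ∈ lineGrp z x p, g * g = 1 := fun g hg => ((h.mem_lineGrp hl).1 hg).elim
    (fun e => by rw [e, one_mul]) fun hh => invol_mul_self (h.crit.orderOf_conj hh.1)
  have hEc : Nat.card ((lineGrp z x p).subgroupOf P) = 2 ^ β := by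
    rw [Nat.card_congr (subgroupOfEquivOfLe hd.line_le).toEquiv, h.card_lineGrp hl, hβ]
  have hP : Nat.card P = 2 ^ (β * 3) := by
    rw [hd.card_eq, h.card_lineGrp hl, hβ,
      show (P ⊓ locKer M z x : Subgroup G) = ⊥ from (eq_bot_iff_forall _).2 fun g hg => hker g hg.1 hg.2,
      card_bot, mul_one, pow_mul]
  have hiff : ∀ e ∈ lineGrp z x p, ∀ v : P,
      e * ((v : G) * v) ∈ locKer M z x ↔ (v : G) * v = e := fun e he v => by
    constructor
    · intro hh
      have h1 := hker _ (mul_mem (hd.line_le he) (mul_mem v.2 v.2)) hh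
      rw [eq_inv_of_mul_eq_one_right h1, inv_eq_of_mul_eq_one_right (hE2 e he)]
    · intro hh
      rw [hh, hE2 e he]
      exact one_mem _
  refine ⟨⟨?_, ?_, ?_, ?_, ?_, ?_, ?_⟩, hEc, hP⟩
  · rw [hEc]
    exact le_trans (by norm_num) (Nat.pow_le_pow_right (n := 2) (by norm_num) hβ2)
  · exact fun e he => mem_center_iff.2 fun g => Subtype.ext (hd.comm e he g g.2).eq.symm
  · exact fun e he => Subtype.ext (hE2 e he)
  · exact fun v => mem_subgroupOf.2 (hsq v v.2)
  · intro v hv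
    have h1 : (v : G) * v = 1 := congrArg Subtype.val hv
    obtain ⟨e, he, heK⟩ := hd.invol v v.2 (h1 ▸ one_mem _)
    refine mem_subgroupOf.2 ?_
    rw [eq_inv_of_mul_eq_one_right (hker _ (mul_mem (hd.line_le he) v.2) heK)]
    exact inv_mem he
  · intro e he f hf he1 hf1
    have hval : ∀ (e : P) (he : (e : G) ∈ lineGrp z x p),
        Nat.card {v : P // v * v = e} = Nat.card {v : P // (e : G) * ((v : G) * v) ∈ locKer M z x} :=
      fun e he => Nat.card_congr (Equiv.subtypeEquivRight fun v => by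
        rw [hiff _ he v, Subtype.ext_iff, coe_mul])
    rw [hval e he, hval f hf]
    exact hd.equal _ he _ hf (fun e1 => he1 (Subtype.ext e1)) fun e1 => hf1 (Subtype.ext e1)
  · rw [hEc, hP, ← pow_mul]

end CfsgLib.SECrit
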