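import Cfsg.Agent.Lib.Invol.SECriterion.Shape.Local

/-!
# The regular two-group of a bad involution with `q ^ 3 + 1` fixed points

The two-elements at `p` of the group of `x` form a group `P`; modulo the kernel it is a Suzuki group of
order `q ^ 3` whose centre is the image of the line of `x`.
-/

set_option autoImplicit false
set_option linter.style.haveILetI false

namespace CfsgLib.SECrit

open CfsgLib.Invol Subgroup

universe u

variable {G : Type u} [Group G] {M : Subgroup G} {z : G}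

/-- The group of the line of `x` at `p`. -/
def lineGrp (z x : G) (p : G ⧸ M) : Subgroup G := closure {d | IsConj z d ∧ d • p = p ∧ Commute x d}

/-- The regular two-group, by its properties. -/
structure RegData (M : Subgroup G) (z x : G) (p : G ⧸ M) (P : Subgroup G) : Prop where
  /-- the two-elements of the group of `x` at `p` -/
  mem : ∀ g : G, g ∈ P ↔ g ∈ locGroup z x ∧ g • p = p ∧ ∃ k : ℕ, g ^ 2 ^ k = 1
  /-- it holds the line -/
  line_le : lineGrp z x p ≤ P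
  /-- the line is central -/
  comm : ∀ e ∈ lineGrp z x p, ∀ g ∈ P, Commute e g
  /-- it is transitive on the further fixed points -/
  trans : ∀ a b : G ⧸ M, x • a = a → x • b = b → a ≠ p → b ≠ p → ∃ g ∈ P, g • a = b
  /-- only the kernel fixes one of them -/
  free : ∀ g ∈ P, ∀ a : G ⧸ M, x • a = a → a ≠ p → g • a = a → g ∈ locKer M z x
  /-- squares lie in the line -/
  sq : ∀ g ∈ P, ∃ e ∈ lineGrp z x p, e * (g * g) ∈ locKer M z x
  /-- involutions lie in the line -/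
  invol : ∀ g ∈ P, g * g ∈ locKer M z x → ∃ e ∈ lineGrp z x p, e * g ∈ locKer M z x
  /-- the members of the line are squares equally often -/
  equal : ∀ e ∈ lineGrp z x p, ∀ f ∈ lineGrp z x p, e ≠ 1 → f ≠ 1 →
    Nat.card {v : P // e * ((v : G) * v) ∈ locKer M z x} = Nat.card {v : P // f * ((v : G) * v) ∈ locKer M z x}
  /-- the order -/
  card_eq : Nat.card P = Nat.card (lineGrp z x p) ^ 3 * Nat.card (P ⊓ locKer M z x : Subgroup G)

/-- The regular two-group of a bad involution with at least `q ^ 2 + 1` fixed points, by its properties. -/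
structure RegTwo (M : Subgroup G) (z x : G) (p : G ⧸ M) (P : Subgroup G) : Prop where
  /-- the two-elements of the group of `x` at `p` -/
  mem : ∀ g : G, g ∈ P ↔ g ∈ locGroup z x ∧ g • p = p ∧ ∃ k : ℕ, g ^ 2 ^ k = 1
  /-- it holds the line -/
  line_le : lineGrp z x p ≤ P
  /-- the line is central -/
  comm : ∀ e ∈ lineGrp z x p, ∀ g ∈ P, Commute e g
  /-- it is transitive on the further fixed points -/
  trans : ∀ a b : G ⧸ M, x • a = a → x • b = b → a ≠ p → b ≠ p → ∃ g ∈ P, g • a = b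
  /-- only the kernel fixes one of them -/
  free : ∀ g ∈ P, ∀ a : G ⧸ M, x • a = a → a ≠ p → g • a = a → g ∈ locKer M z x
  /-- squares lie in the line -/
  sq : ∀ g ∈ P, ∃ e ∈ lineGrp z x p, e * (g * g) ∈ locKer M z x
  /-- involutions lie in the line -/
  invol : ∀ g ∈ P, g * g ∈ locKer M z x → ∃ e ∈ lineGrp z x p, e * g ∈ locKer M z x
  /-- so does the centre -/
  center : ∀ g ∈ P, (∀ v ∈ P, g * v * g⁻¹ * v⁻¹ ∈ locKer M z x) → ∃ e ∈ lineGrp z x p, e * g ∈ locKer M z x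

variable [Finite G]

theorem Setup.mem_lineGrp (h : Setup M z) {x : G} (hl : Local M z x) {p : G ⧸ M} {g : G} :
    g ∈ lineGrp z x p ↔ g = 1 ∨ (IsConj z g ∧ g • p = p ∧ Commute x g) := by
  refine ⟨fun hg => ?_, fun hg => hg.elim (fun e => e ▸ one_mem _) fun hg => subset_closure hg⟩
  induction hg using closure_induction with
  | mem d hd => exact Or.inr hd
  | one => exact Or.inl rfl
  | inv a _ iha =>
    rcases iha with rfl | ha
    · exact Or.inl inv_one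
    · exact Or.inr (by rw [invol_inv (h.crit.orderOf_conj ha.1)]; exact ha)
  | mul a b _ _ iha ihb =>
    rcases iha with rfl | ha
    · rwa [one_mul]
    rcases ihb with rfl | hb
    · rw [mul_one]; exact Or.inr ha
    rcases eq_or_ne a b with rfl | hne
    · exact Or.inl (invol_mul_self (h.crit.orderOf_conj ha.1))
    exact Or.inr ⟨h.isConj_mul ha.1 hb.1 (hl.comm_at a b p ha.1 hb.1 ha.2.2 hb.2.2 ha.2.1 hb.2.1) hne,
      by rw [mul_smul, hb.2.1, ha.2.1], ha.2.2.mul_right hb.2.2⟩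

theorem Setup.card_lineGrp (h : Setup M z) {x : G} (hl : Local M z x) (p : G ⧸ M) :
    Nat.card (lineGrp z x p) = Nat.card (CAt z ({x} : Set G) p) + 1 := by
  have e : (lineGrp z x p : Set G) = insert 1 {g | IsConj z g ∧ g • p = p ∧ Commute x g} := by
    ext g; rw [SetLike.mem_coe, h.mem_lineGrp hl, Set.mem_insert_iff]; rfl
  show Nat.card ↑(lineGrp z x p : Set G) = _
  rw [Nat.card_coe_set_eq, e, Set.ncard_insert_of_notMem ?_ (Set.toFinite _), ← Nat.card_coe_set_eq]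
  · exact congrArg (· + 1) (Nat.card_congr (Equiv.subtypeEquivRight fun g => by simp))
  · exact fun h2 => invol_ne_one (h.crit.orderOf_conj h2.1) rfl

/-- **The regular two-group**, with at least `q ^ 2 + 1` fixed points. -/
theorem Setup.exists_regTwo (h : Setup M z) {x : G} (hl : Local M z x) (hx : IsBad M x) {p : G ⧸ M}
    (hxp : x • p = p) {β m : ℕ} (hβ : Nat.card (CAt z ({x} : Set G) p) + 1 = 2 ^ β) (hβ2 : 2 ≤ β)
    (hm : 2 ≤ m) (hk : Nat.card {c : G ⧸ M // x • c = c} = 2 ^ (β * m) + 1) :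
    ∃ P : Subgroup G, RegTwo M z x p P ∧
      (∀ e ∈ lineGrp z x p, ∀ f ∈ lineGrp z x p, e ≠ 1 → f ≠ 1 →
        Nat.card {v : P // e * ((v : G) * v) ∈ locKer M z x} = Nat.card {v : P // f * ((v : G) * v) ∈ locKer M z x}) ∧
      Nat.card P = Nat.card (lineGrp z x p) ^ m * Nat.card (P ⊓ locKer M z x : Subgroup G) := by
  classical
  haveI : Fact (Nat.Prime 2) := ⟨Nat.prime_two⟩
  obtain ⟨hxo, r₀, s₀, hrs, hr₀, hs₀⟩ := hx
  obtain ⟨q, hqp, hxq⟩ : ∃ q : G ⧸ M, q ≠ p ∧ x • q = q := by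
    by_cases hrp : r₀ = p
    · exact ⟨s₀, fun e => hrs (hrp.trans e.symm), hs₀⟩
    · exact ⟨r₀, hrp, hr₀⟩
  have hfour : 4 ≤ 2 ^ β := le_trans (by norm_num) (Nat.pow_le_pow_right (n := 2) (by norm_num) hβ2)
  obtain ⟨d, e, hd, hdp, hxd, he, hep, hxe, hne⟩ : ∃ d e : G, IsConj z d ∧ d • p = p ∧ Commute x d ∧
      IsConj z e ∧ e • p = p ∧ Commute x e ∧ d ≠ e := by
    obtain ⟨⟨d, hd, hdp, hdx⟩, ⟨e, he, hep, hex⟩, hne⟩ :=
      (Finite.one_lt_card_iff_nontrivial.1 (show 1 < Nat.card (CAt z ({x} : Set G) p) by omega)).exists_pair_ne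
    exact ⟨d, e, hd, hdp, hdx x rfl, he, hep, hex x rfl, fun e1 => hne (Subtype.ext e1)⟩
  have hde : Commute d e := hl.comm_at d e p hd he hxd hxe hdp hep
  obtain ⟨s, hs⟩ : ∃ s, 2 ^ (β * m) = s := ⟨_, rfl⟩
  rw [hs] at hk
  set L := locGroup z x with hL
  set H := (MulAction.stabilizer G p).subgroupOf L with hH
  have hmem : ∀ g : L, g ∈ H ↔ (g : G) • p = p := fun g => Iff.rfl
  have hcore : ∀ c : L, c ∈ H.normalCore ↔ (c : G) ∈ locKer M z x := by
    refine fun c => ⟨fun hcc => mem_locKer.2 ⟨c.2, fun b hb => ?_⟩, fun hcc g => ?_⟩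
    · obtain ⟨g, hg, rfl⟩ := h.exists_loc_smul hxo hxp hb
      have h1 : ((⟨g, hg⟩ : L)⁻¹ * c * ((⟨g, hg⟩ : L)⁻¹)⁻¹) ∈ H := hcc _
      have h2 : (g⁻¹ * (c : G) * g) • p = p := by simpa [H, mem_subgroupOf, mul_assoc] using h1
      rwa [mul_smul, mul_smul, inv_smul_eq_iff] at h2
    · rw [hmem]
      show ((g : G) * (c : G) * (g : G)⁻¹) • p = p
      have hg : Commute x (g : G)⁻¹ := (commute_of_mem_locGroup g.2).inv_right
      rw [mul_smul, mul_smul, (mem_locKer.1 hcc).2 _ (smul_mem_fix hg hxp), smul_inv_smul]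
  set π := QuotientGroup.mk' H.normalCore with hπ
  have hsurj : Function.Surjective π := QuotientGroup.mk'_surjective _
  have hone : ∀ c : L, π c = 1 ↔ (c : G) ∈ locKer M z x := fun c => by
    rw [hπ, QuotientGroup.mk'_apply, QuotientGroup.eq_one_iff, hcore]
  have hker : π.ker ≤ H := by rw [hπ, QuotientGroup.ker_mk']; exact H.normalCore_le
  have hmem' : ∀ g : L, π g ∈ H.map π ↔ (g : G) • p = p := fun g => by
    rw [← mem_comap, comap_map_eq_self hker, hmem]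
  have himg : ∀ c : L, IsConj z (c : G) → orderOf (π c) = 2 := fun c hc =>
    orderOf_eq_prime (by
      rw [← map_pow, pow_two, show c * c = 1 from Subtype.ext (invol_mul_self (h.crit.orderOf_conj hc)),
        map_one])
      (fun e1 => h.not_mem_locKer_of_isConj hxo hqp.symm hxp hxq hc ((hone c).1 e1))
  have hproper : H.map π ≠ ⊤ := fun e1 => by
    obtain ⟨g, hg, hgb⟩ := h.exists_loc_smul hxo hxp hxq
    exact hqp (hgb.symm.trans ((hmem' ⟨g, hg⟩).1 (e1 ▸ mem_top _)))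
  have hse : Cfsg.IsStronglyEmbedded (H.map π) := by
    refine (stronglyEmbedded_iff hproper ?_).2 ?_
    · refine even_iff_two_dvd.2 ?_
      rw [← himg ⟨d, mem_locGroup hd hxd⟩ hd, ← orderOf_mk (π _) ((hmem' ⟨d, mem_locGroup hd hxd⟩).2 hdp)]
      exact orderOf_dvd_natCard _
    · rintro tb ht hto gb hg
      obtain ⟨t, rfl⟩ := hsurj tb
      obtain ⟨g, rfl⟩ := hsurj gb
      rw [← map_inv, ← map_mul, ← map_mul, hmem'] at hg
      rw [hmem'] at ht ⊢
      have ht2 : ((t : G) * t) ∈ locKer M z x := (hone (t * t)).1 (by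
        rw [map_mul, ← pow_two, ← hto, pow_orderOf_eq_one])
      have ht1 : (t : G) ∉ locKer M z x := fun e1 => by
        rw [(hone t).2 e1, orderOf_one] at hto; omega
      have hgc : Commute x (g : G)⁻¹ := (commute_of_mem_locGroup g.2).inv_right
      have h2 : (t : G) • ((g : G)⁻¹ • p) = (g : G)⁻¹ • p := by
        have : ((g : G) * t * (g : G)⁻¹) • p = p := hg
        rw [mul_smul, mul_smul] at this
        exact eq_inv_smul_iff.2 this
      exact (inv_smul_eq_iff.1 (h.eq_of_loc_invol hxo hqp.symm hxp hxq t.2 ht2 ht1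
        (smul_mem_fix hgc hxp) hxp h2 ht)).symm
  have hcore' : (H.map π).normalCore = ⊥ := by
    rw [eq_bot_iff]
    intro cb hc
    obtain ⟨c, rfl⟩ := hsurj cb
    refine mem_bot.2 ((QuotientGroup.eq_one_iff c).2 fun g => ?_)
    have := (normalCore_normal _).conj_mem _ hc (π g)
    rw [← map_inv, ← map_mul, ← map_mul] at this
    exact (hmem' _).1 (normalCore_le _ this)
  have hpair : CfsgLib.Bender.HasPair (L ⧸ H.normalCore) := by
    refine ⟨π ⟨d, mem_locGroup hd hxd⟩, π ⟨e, mem_locGroup he hxe⟩, himg _ hd, himg _ he, fun e1 => ?_,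
      (show Commute (⟨d, mem_locGroup hd hxd⟩ : L) ⟨e, mem_locGroup he hxe⟩ from Subtype.ext hde.eq).map π⟩
    refine h.mul_not_mem_locKer hxo hqp.symm hxp hxq hd he hde hne ?_
    have h1 := (hcore _).1 ((QuotientGroup.eq).1 e1)
    simpa [invol_inv (h.crit.orderOf_conj hd)] using h1
  obtain ⟨Q, hQH, hnorm, hQ2, hreg⟩ := CfsgLib.Bender.Full.fullStatement _ _ hse hcore' hpair
  have hD : Shape.Data (H.map π) Q := ⟨hse, hcore', hpair, hQH, hnorm, hQ2, hreg⟩
  have hQcard : Nat.card Q = s := by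
    letI : MulAction L {c : G ⧸ M // x • c = c} :=
      { smul := fun g c => ⟨(g : G) • c.1, smul_mem_fix (commute_of_mem_locGroup g.2) c.2⟩
        one_smul := fun c => Subtype.ext (one_smul G c.1)
        mul_smul := fun g g' c => Subtype.ext (mul_smul (g : G) (g' : G) c.1) }
    haveI : MulAction.IsPretransitive L {c : G ⧸ M // x • c = c} := ⟨fun b c => by
      obtain ⟨g, hg, hgb⟩ := h.exists_loc_smul hxo b.2 c.2
      exact ⟨⟨g, hg⟩, Subtype.ext hgb⟩⟩
    have e1 : H.index = s + 1 := by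
      rw [← hk, show H = MulAction.stabilizer L (⟨p, hxp⟩ : {c : G ⧸ M // x • c = c}) from
        Subgroup.ext fun g => ⟨fun hg => Subtype.ext hg, fun hg => congrArg Subtype.val hg⟩]
      exact MulAction.index_stabilizer_of_transitive L _
    have e2 : (H.map π).index = H.index := index_map_eq _ hsurj hker
    have e3 := hD.card_points
    rw [← index_eq_card, e2, e1] at e3
    omega
  set E := lineGrp z x p with hEdef
  have hEq : Nat.card E = 2 ^ β := by rw [hEdef, h.card_lineGrp hl, hβ]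
  have hEL : ∀ g ∈ E, g ∈ L := fun g hg => ((h.mem_lineGrp hl).1 hg).elim (fun e => e ▸ one_mem _)
    fun hg => mem_locGroup hg.1 hg.2.2
  have hEp : ∀ g ∈ E, g • p = p := fun g hg => ((h.mem_lineGrp hl).1 hg).elim (fun e => by rw [e, one_smul])
    fun hg => hg.2.1
  have hE2 : ∀ g ∈ E, g * g = 1 := fun g hg => ((h.mem_lineGrp hl).1 hg).elim (fun e => by rw [e, one_mul])
    fun hg => invol_mul_self (h.crit.orderOf_conj hg.1)
  let f : E →* L ⧸ H.normalCore := π.comp (Subgroup.inclusion hEL)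
  have hfinj : Function.Injective f := by
    refine (injective_iff_map_eq_one f).2 fun g hg => ?_
    have hg' : (g : G) ∈ locKer M z x := (hone _).1 hg
    rcases (h.mem_lineGrp hl).1 g.2 with e1 | e1
    · exact Subtype.ext e1
    · exact absurd hg' (h.not_mem_locKer_of_isConj hxo hqp.symm hxp hxq e1.1)
  have hfQ : ∀ g : E, f g ∈ Q := fun g =>
    hD.mem_of_invol ((hmem' _).2 (hEp g g.2)) (by
      rw [← map_mul, show g * g = 1 from Subtype.ext (hE2 g g.2), map_one])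
  -- the involutions of `Q` come from the line
  have hinv : ∀ y : L ⧸ H.normalCore, y ∈ Q → y * y = 1 → ∃ g : E, f g = y := by
    intro y hy hy2
    by_cases hy1 : y = 1
    · exact ⟨1, by rw [map_one, hy1]⟩
    obtain ⟨u, rfl⟩ := hsurj y
    have hu2 : (u : G) * u ∈ locKer M z x := (hone (u * u)).1 (by rw [map_mul]; exact hy2)
    obtain ⟨c, hc, hxc, hcu⟩ := h.lift_invol hxo hqp.symm hxp hxq u.2 hu2 fun e1 => hy1 ((hone u).2 e1)
    have e2 : π ⟨c, mem_locGroup hc hxc⟩ = π u := QuotientGroup.eq.2 ((hcore _).2 hcu)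
    have hcp : c • p = p := (hmem' ⟨c, mem_locGroup hc hxc⟩).1 (e2 ▸ hQH hy)
    exact ⟨⟨c, (h.mem_lineGrp hl).2 (Or.inr ⟨hc, hcp, hxc⟩)⟩, e2⟩
  -- `Q` is a Suzuki group
  haveI : FaithfulSMul (L ⧸ H.normalCore) ((L ⧸ H.normalCore) ⧸ H.map π) := ⟨fun {g₁ g₂} hg => by
    refine inv_mul_eq_one.1 (hD.faithful fun b => ?_)
    rw [mul_smul, ← hg, inv_smul_smul]⟩
  obtain ⟨S, hS⟩ : ∃ S : Sylow 2 Q, (S : Subgroup Q) = ⊤ :=
    ⟨⟨⊤, hD.two.to_subgroup ⊤ |>.of_equiv (MulEquiv.refl _), fun _ hle => le_antisymm le_top hle⟩, rfl⟩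
  obtain ⟨t, hset⟩ := hD.exists_setup
  have hsuz : Cfsg.IsSuzukiTwoGroup (S : Subgroup Q) := by
    rcases Cfsg.Agent.S1132.result hset hD.pair_mul S with hab | hsuz
    · exfalso
      have hc := hD.sq_eq_one_of_comm fun a ha b hb => congrArg (fun t : (S : Subgroup Q) => ((t : Q) : L ⧸ H.normalCore))
        (hab.is_comm.comm (⟨⟨a, ha⟩, hS ▸ mem_top _⟩ : (S : Subgroup Q)) ⟨⟨b, hb⟩, hS ▸ mem_top _⟩)
      have hle : Nat.card {y : Q // y * y = 1} ≤ Nat.card E := by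
        refine Nat.card_le_card_of_surjective (fun g : E => (⟨⟨f g, hfQ g⟩, Subtype.ext (by
          show f g * f g = 1
          rw [← map_mul, show g * g = 1 from Subtype.ext (hE2 g g.2), map_one])⟩ : {y : Q // y * y = 1})) ?_
        rintro ⟨⟨y, hy⟩, hy2⟩
        obtain ⟨g, hg⟩ := hinv y hy (congrArg Subtype.val hy2)
        exact ⟨g, Subtype.ext (Subtype.ext hg)⟩
      rw [← hc, hQcard, hEq, ← hs] at hle
      have := (Nat.pow_le_pow_iff_right (by norm_num)).1 hle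
      have := Nat.mul_le_mul_left β hm
      omega
    · exact hsuz
  obtain ⟨hinvol, hcen2⟩ := Cfsg.Agent.S1137.result hsuz
  obtain ⟨hsqc, -, -, -⟩ := Cfsg.Agent.S1138.result hsuz
  obtain ⟨-, -, -, -, K', -, hreg'⟩ := hsuz
  have hsqE : ∀ y ∈ Q, ∃ g : E, f g = y * y := by
    intro y hy
    refine hinv _ (mul_mem hy hy) ?_
    exact congrArg (fun t : (S : Subgroup Q) => ((t : Q) : L ⧸ H.normalCore))
      (hcen2 _ (hsqc ⟨⟨y, hy⟩, hS ▸ mem_top _⟩))
  -- the two-elements above `Q`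
  set T := Q.comap π with hT
  have hKL : ∀ k : L, π k = 1 → ∀ g : L, Commute k g := fun k hk g =>
    Subtype.ext (hl.ker_comm k ((hone k).1 hk) g g.2).eq
  have hTn : Group.IsNilpotent T := by
    have hsur : Function.Surjective (π.subgroupComap Q) :=
      π.subgroupComap_surjective_of_surjective Q hsurj
    haveI : Group.IsNilpotent Q := hD.two.isNilpotent
    exact Subgroup.isNilpotent_of_ker_le_center (π.subgroupComap Q) fun k hk => mem_center_iff.2 fun g =>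
      Subtype.ext (hKL k (congrArg Subtype.val (MonoidHom.mem_ker.1 hk)) g).eq.symm
  haveI := hTn
  obtain ⟨ST⟩ : Nonempty (Sylow 2 T) := inferInstance
  haveI : (ST : Subgroup T).Normal :=
    ST.normal_of_normalizerCondition Group.normalizerCondition_of_isNilpotent
  have hTtwo : ∀ g : T, (∃ k : ℕ, g ^ 2 ^ k = 1) → g ∈ (ST : Subgroup T) := by
    intro g hg
    have hp : IsPGroup 2 (zpowers g) := by
      obtain ⟨k, hk⟩ := hg
      rintro ⟨_, i, rfl⟩
      exact ⟨k, Subtype.ext (show (g ^ i) ^ 2 ^ k = 1 by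
        rw [← zpow_natCast, zpow_comm, zpow_natCast, hk, one_zpow])⟩
    exact (ST.3 (hp.to_sup_of_normal_right ST.2) le_sup_right) ▸ mem_sup_left (mem_zpowers g)
  set P := ((ST : Subgroup T).map T.subtype).map L.subtype with hP
  have hP2 : IsPGroup 2 P := (ST.2.map _).map _
  have hmemP : ∀ g : G, g ∈ P ↔ g ∈ L ∧ g • p = p ∧ ∃ k : ℕ, g ^ 2 ^ k = 1 := by
    intro g
    constructor
    · intro hg
      obtain ⟨k, hk⟩ := hP2 ⟨g, hg⟩
      have hk' : g ^ 2 ^ k = 1 := congrArg Subtype.val hk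
      obtain ⟨_, ⟨u, -, rfl⟩, rfl⟩ := hg
      exact ⟨(u : L).2, (hmem' _).1 (hQH u.2), k, hk'⟩
    · rintro ⟨hgL, hgp, k, hk⟩
      have hgk : (⟨g, hgL⟩ : L) ^ 2 ^ k = 1 := Subtype.ext hk
      have hgT : (⟨g, hgL⟩ : L) ∈ T := hD.mem_of_two ((hmem' _).2 hgp) (k := k) (by rw [← map_pow, hgk, map_one])
      exact ⟨⟨g, hgL⟩, ⟨⟨_, hgT⟩, hTtwo _ ⟨k, Subtype.ext hgk⟩, rfl⟩, rfl⟩
  have hEP : E ≤ P := fun g hg => (hmemP g).2 ⟨hEL g hg, hEp g hg, 1, by rw [pow_one, pow_two, hE2 g hg]⟩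
  let ρ : P →* Q :=
    { toFun := fun v => ⟨π ⟨v, ((hmemP v).1 v.2).1⟩, hD.mem_of_two ((hmem' _).2 ((hmemP v).1 v.2).2.1)
        (k := ((hmemP v).1 v.2).2.2.choose) (by
          rw [← map_pow, ← map_one π]
          exact congrArg π (Subtype.ext ((hmemP v).1 v.2).2.2.choose_spec))⟩
      map_one' := Subtype.ext (map_one π)
      map_mul' := fun v w => Subtype.ext (by
        show π _ = π _ * π _
        rw [← map_mul]
        rfl) }
  have hρsurj : Function.Surjective ρ := by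
    rintro ⟨y, hy⟩
    obtain ⟨u, rfl⟩ := hsurj y
    obtain ⟨n, hn⟩ := hD.two ⟨π u, hy⟩
    have hn' : (u : G) ^ 2 ^ n ∈ locKer M z x :=
      (hone _).1 (by rw [map_pow]; exact congrArg Subtype.val hn)
    -- the two-part of `u`
    obtain ⟨a, b, hb, hab⟩ := Nat.exists_eq_two_pow_mul_odd (orderOf_pos (u : L)).ne'
    obtain ⟨c, -, hc⟩ := Nat.exists_mul_mod_eq_one_of_coprime (n := b) (k := 2 ^ (n + 1))
      ((Nat.coprime_two_right.2 hb).pow_right _) (Nat.one_lt_two_pow (Nat.succ_ne_zero n))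
    have hbc : π (u ^ (b * c)) = π u := by
      have e1 : π u ^ 2 ^ (n + 1) = 1 := by
        rw [pow_succ, pow_mul, show π u ^ 2 ^ n = 1 from congrArg Subtype.val hn, one_pow]
      rw [map_pow, ← Nat.div_add_mod (b * c) (2 ^ (n + 1)), pow_add, pow_mul, e1, one_pow, one_mul, hc, pow_one]
    refine ⟨⟨((u ^ (b * c) : L) : G), (hmemP _).2 ⟨(u ^ (b * c)).2, (hmem' _).1 (by rw [hbc]; exact hQH hy),
      a, ?_⟩⟩, Subtype.ext hbc⟩
    have e2 : (u ^ (b * c)) ^ 2 ^ a = 1 := by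
      rw [← pow_mul, show b * c * 2 ^ a = (2 ^ a * b) * c by ring, pow_mul, ← hab, pow_orderOf_eq_one, one_pow]
    exact congrArg Subtype.val e2
  have hρK : ∀ v : P, ρ v = 1 ↔ (v : G) ∈ locKer M z x := fun v => by
    rw [Subtype.ext_iff]; exact hone _
  have hρE : ∀ (g : G) (hg : g ∈ E), ((ρ ⟨g, hEP hg⟩ : Q) : L ⧸ H.normalCore) = f ⟨g, hg⟩ := fun g hg => rfl
  refine ⟨P, ⟨hmemP, hEP, ?_, ?_, ?_, ?_, ?_, ?_⟩, ?_, ?_⟩
  · -- the line is central
    intro e' he' g hg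
    rcases (h.mem_lineGrp hl).1 he' with rfl | ⟨hc, hcp, hxc⟩
    · exact Commute.one_left g
    obtain ⟨hgL, hgp, -⟩ := (hmemP g).1 hg
    have hxg := commute_of_mem_locGroup hgL
    have hcen : (⟨ρ ⟨e', hEP he'⟩, hS ▸ mem_top _⟩ : (S : Subgroup Q)) ∈ center (S : Subgroup Q) := by
      refine ((hinvol _).1 ⟨fun e1 => ?_, Subtype.ext ?_⟩).1
      · exact h.not_mem_locKer_of_isConj hxo hqp.symm hxp hxq hc
          ((hρK ⟨e', hEP he'⟩).1 (congrArg Subtype.val e1))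
      · show ρ ⟨e', hEP he'⟩ * ρ ⟨e', hEP he'⟩ = 1
        rw [← map_mul, show (⟨e', hEP he'⟩ : P) * ⟨e', hEP he'⟩ = 1 from Subtype.ext (hE2 e' he'), map_one]
    have hc' := mem_center_iff.1 hcen ⟨ρ ⟨g, hg⟩, hS ▸ mem_top _⟩
    have h1 : ρ (⟨e', hEP he'⟩⁻¹ * (⟨g, hg⟩ * ⟨e', hEP he'⟩ * ⟨g, hg⟩⁻¹)) = 1 := by
      rw [map_mul, map_mul, map_mul, map_inv, map_inv,
        show ρ ⟨g, hg⟩ * ρ ⟨e', hEP he'⟩ = ρ ⟨e', hEP he'⟩ * ρ ⟨g, hg⟩ from congrArg Subtype.val hc',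
        mul_inv_cancel_right, inv_mul_cancel]
    have h2 := hl.eq_of_ker e' (g * e' * g⁻¹) hc (hc.trans (isConj_iff.2 ⟨g, rfl⟩)) hxc
      ((hxg.mul_right hxc).mul_right hxg.inv_right) ((hρK _).1 h1)
    exact (mul_inv_eq_iff_eq_mul.1 h2.symm).symm
  · -- transitivity
    intro a b ha hb hap hbp
    letI : MulAction P {c : G ⧸ M // x • c = c} :=
      { smul := fun g c => ⟨(g : G) • c.1, smul_mem_fix (commute_of_mem_locGroup ((hmemP g).1 g.2).1) c.2⟩
        one_smul := fun c => Subtype.ext (one_smul G c.1)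
        mul_smul := fun g g' c => Subtype.ext (mul_smul (g : G) (g' : G) c.1) }
    obtain ⟨ga, hga, rfl⟩ := h.exists_loc_smul hxo hxp ha
    obtain ⟨gb, hgb, rfl⟩ := h.exists_loc_smul hxo hxp hb
    obtain ⟨y, ⟨hy, hyk⟩, -⟩ := hD.reg (π ⟨ga, hga⟩) (π ⟨gb, hgb⟩)
      (fun e1 => hap ((hmem' _).1 e1)) (fun e1 => hbp ((hmem' _).1 e1))
    obtain ⟨v, hv⟩ := hρsurj ⟨y, hy⟩
    refine ⟨v, v.2, ?_⟩
    have hv' : π ⟨v, ((hmemP v).1 v.2).1⟩ = y := congrArg Subtype.val hv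
    rw [← hv', ← map_inv, ← map_mul, ← map_mul, hmem'] at hyk
    have hyk' : (gb⁻¹ * ((v : G) * ga)) • p = p := hyk
    rwa [mul_smul, mul_smul, inv_smul_eq_iff] at hyk'
  · -- only the kernel fixes one of them
    intro g hg a ha hap hga
    obtain ⟨ga, hga', rfl⟩ := h.exists_loc_smul hxo hxp ha
    have hgaH : π ⟨ga, hga'⟩ ∉ H.map π := fun e1 => hap ((hmem' _).1 e1)
    obtain ⟨w, -, huniq⟩ := hD.reg (π ⟨ga, hga'⟩) (π ⟨ga, hga'⟩) hgaH hgaH
    refine (hρK ⟨g, hg⟩).1 (Subtype.ext ((huniq _ ⟨(ρ ⟨g, hg⟩).2, ?_⟩).trans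
      (huniq 1 ⟨one_mem Q, by rw [one_mul, inv_mul_cancel]; exact one_mem _⟩).symm))
    show (π ⟨ga, hga'⟩)⁻¹ * (π ⟨g, _⟩ * π ⟨ga, hga'⟩) ∈ H.map π
    rw [← map_inv, ← map_mul, ← map_mul, hmem']
    show (ga⁻¹ * (g * ga)) • p = p
    rw [mul_smul, mul_smul, hga, inv_smul_smul]
  · -- squares
    intro g hg
    obtain ⟨e', he'⟩ := hsqE _ (ρ ⟨g, hg⟩).2
    refine ⟨e', e'.2, (hρK (⟨e', hEP e'.2⟩ * (⟨g, hg⟩ * ⟨g, hg⟩))).1 (Subtype.ext ?_)⟩
    rw [map_mul, map_mul, coe_mul, hρE _ e'.2, coe_mul, ← he', ← map_mul,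
      show e' * e' = 1 from Subtype.ext (hE2 e' e'.2), map_one]
    rfl
  · -- involutions
    intro g hg hgg
    obtain ⟨e', he'⟩ := hinv _ (ρ ⟨g, hg⟩).2 (by
      rw [← coe_mul, ← map_mul, (hρK (⟨g, hg⟩ * ⟨g, hg⟩)).2 hgg]; rfl)
    refine ⟨e', e'.2, (hρK (⟨e', hEP e'.2⟩ * ⟨g, hg⟩)).1 (Subtype.ext ?_)⟩
    rw [map_mul, coe_mul, hρE _ e'.2, ← he', ← map_mul, show e' * e' = 1 from Subtype.ext (hE2 e' e'.2), map_one]
    rfl
  · -- the centre
    intro g hg hgc
    have hcS : (⟨ρ ⟨g, hg⟩, hS ▸ mem_top _⟩ : (S : Subgroup Q)) ∈ center (S : Subgroup Q) := by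
      refine mem_center_iff.2 fun y => Subtype.ext ?_
      obtain ⟨v, hv⟩ := hρsurj (y : Q)
      show (y : Q) * ρ ⟨g, hg⟩ = ρ ⟨g, hg⟩ * (y : Q)
      rw [← hv, ← map_mul, ← map_mul]
      have h1 : ρ (⟨g, hg⟩ * v * (⟨g, hg⟩ : P)⁻¹ * v⁻¹) = 1 := (hρK _).2 (hgc v v.2)
      rw [map_mul, map_mul, map_mul, map_inv, map_inv, mul_inv_eq_one, mul_inv_eq_iff_eq_mul] at h1
      rw [map_mul, map_mul]
      exact h1.symm
    obtain ⟨e', he'⟩ := hinv _ (ρ ⟨g, hg⟩).2
      (congrArg (fun t : (S : Subgroup Q) => ((t : Q) : L ⧸ H.normalCore)) (hcen2 _ hcS))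
    refine ⟨e', e'.2, (hρK (⟨e', hEP e'.2⟩ * ⟨g, hg⟩)).1 (Subtype.ext ?_)⟩
    rw [map_mul, coe_mul, hρE _ e'.2, ← he', ← map_mul, show e' * e' = 1 from Subtype.ext (hE2 e' e'.2), map_one]
    rfl
  · -- the fibres
    intro e₁ he₁ e₂ he₂ h₁ h₂
    have hsplit : ∀ (g : G) (hg : g ∈ E), Nat.card {v : P // g * ((v : G) * v) ∈ locKer M z x} =
        Nat.card ρ.ker * Nat.card {y : Q // y * y = ρ ⟨g, hEP hg⟩} := by
      intro g hg
      have hiff : ∀ v : P, g * ((v : G) * v) ∈ locKer M z x ↔ ρ v * ρ v = ρ ⟨g, hEP hg⟩ := fun v => by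
        refine (hρK (⟨g, hEP hg⟩ * (v * v))).symm.trans ?_
        rw [map_mul, map_mul, mul_eq_one_iff_inv_eq, ← map_inv, eq_comm]
        rw [show (⟨g, hEP hg⟩ : P)⁻¹ = ⟨g, hEP hg⟩ from inv_eq_of_mul_eq_one_right (Subtype.ext (hE2 g hg))]
      obtain ⟨sec, hsec⟩ := hρsurj.hasRightInverse
      rw [← Nat.card_prod]
      exact Nat.card_congr
        { toFun := fun v => (⟨(sec (ρ v.1))⁻¹ * v.1, by rw [MonoidHom.mem_ker, map_mul, map_inv, hsec, inv_mul_cancel]⟩,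
            ⟨ρ v.1, (hiff v.1).1 v.2⟩)
          invFun := fun w => ⟨sec w.2.1 * w.1.1, (hiff _).2 (by
            rw [map_mul, hsec, MonoidHom.mem_ker.1 w.1.2, mul_one]; exact w.2.2)⟩
          left_inv := fun v => Subtype.ext (mul_inv_cancel_left _ _)
          right_inv := fun w => by
            have e1 : ρ (sec w.2.1 * w.1.1) = w.2.1 := by rw [map_mul, hsec, MonoidHom.mem_ker.1 w.1.2, mul_one]
            refine Prod.ext (Subtype.ext ?_) (Subtype.ext e1)
            show (sec (ρ _))⁻¹ * _ = _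
            rw [e1, inv_mul_cancel_left] }
    rw [hsplit e₁ he₁, hsplit e₂ he₂]
    congr 1
    have hE1 : ∀ (g : G) (hg : g ∈ E), g ≠ 1 → ρ ⟨g, hEP hg⟩ ≠ 1 ∧ ρ ⟨g, hEP hg⟩ * ρ ⟨g, hEP hg⟩ = 1 := by
      intro g hg hg1
      refine ⟨fun e1 => hg1 (congrArg Subtype.val (hfinj (a₁ := ⟨g, hg⟩) (a₂ := 1) ?_)), ?_⟩
      · rw [← hρE g hg, e1, map_one]; rfl
      · rw [← map_mul, show (⟨g, hEP hg⟩ : P) * ⟨g, hEP hg⟩ = 1 from Subtype.ext (hE2 g hg), map_one]
    obtain ⟨h11, h12⟩ := hE1 e₁ he₁ h₁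
    obtain ⟨h21, h22⟩ := hE1 e₂ he₂ h₂
    obtain ⟨k, hk', -⟩ := hreg' ⟨ρ ⟨e₁, hEP he₁⟩, hS ▸ mem_top _⟩ ⟨ρ ⟨e₂, hEP he₂⟩, hS ▸ mem_top _⟩
      (fun e1 => h11 (congrArg Subtype.val e1)) (Subtype.ext h12) (fun e1 => h21 (congrArg Subtype.val e1))
      (Subtype.ext h22)
    let σ : (S : Subgroup Q) ≃* (S : Subgroup Q) := (k : MulAut (S : Subgroup Q))
    have hst : ∀ y : Q, y ∈ (S : Subgroup Q) := fun y => hS ▸ mem_top y
    exact Nat.card_congr
      { toFun := fun y => ⟨σ ⟨y.1, hst _⟩, (congrArg Subtype.val (map_mul σ ⟨y.1, hst _⟩ ⟨y.1, hst _⟩).symm).trans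
          ((congrArg (fun t => ((σ t : (S : Subgroup Q)) : Q)) (Subtype.ext y.2)).trans (congrArg Subtype.val hk'))⟩
        invFun := fun y => ⟨σ.symm ⟨y.1, hst _⟩,
          (congrArg Subtype.val (map_mul σ.symm ⟨y.1, hst _⟩ ⟨y.1, hst _⟩).symm).trans
          ((congrArg (fun t => ((σ.symm t : (S : Subgroup Q)) : Q)) (Subtype.ext y.2)).trans
            (congrArg Subtype.val (σ.symm_apply_eq.2 hk'.symm)))⟩
        left_inv := fun y => by
          apply Subtype.ext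
          show ((σ.symm (σ ⟨y.1, hst _⟩) : (S : Subgroup Q)) : Q) = y.1
          rw [σ.symm_apply_apply]
        right_inv := fun y => by
          apply Subtype.ext
          show ((σ (σ.symm ⟨y.1, hst _⟩) : (S : Subgroup Q)) : Q) = y.1
          rw [σ.apply_symm_apply] }
  · -- the order
    have hker : Nat.card ρ.ker = Nat.card (P ⊓ locKer M z x : Subgroup G) := Nat.card_congr
      { toFun := fun v => ⟨v.1.1, v.1.2, (hρK v.1).1 v.2⟩
        invFun := fun g => ⟨⟨g.1, g.2.1⟩, (hρK _).2 g.2.2⟩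
        left_inv := fun _ => rfl
        right_inv := fun _ => rfl }
    have h1 := ρ.ker.index_mul_card
    rw [Subgroup.index_ker, MonoidHom.range_eq_top.2 hρsurj, Subgroup.card_top, hker, hQcard, ← hs] at h1
    rw [← h1, hEq, ← pow_mul]

/-- **The regular two-group.** -/
theorem Setup.exists_regData (h : Setup M z) {x : G} (hl : Local M z x) (hx : IsBad M x) {p : G ⧸ M}
    (hxp : x • p = p) {β : ℕ} (hβ : Nat.card (CAt z ({x} : Set G) p) + 1 = 2 ^ β) (hβ2 : 2 ≤ β)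
    (hk : Nat.card {c : G ⧸ M // x • c = c} = 2 ^ (β * 3) + 1) : ∃ P : Subgroup G, RegData M z x p P := by
  obtain ⟨P, hP, h1, h2⟩ := h.exists_regTwo hl hx hxp hβ hβ2 (m := 3) (by norm_num) hk
  exact ⟨P, hP.mem, hP.line_le, hP.comm, hP.trans, hP.free, hP.sq, hP.invol, h1, h2⟩

end CfsgLib.SECrit
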