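import Mathlib

/-!
# The strong embedding criterion: uniformity of the type `s = q ^ 3`

Two bad involutions at a point give two expressions for the number of further points:
`t (t + 1) b ^ 2 + t m = s (s + 1) a ^ 2 + s m` for `b ≥ a` members and `t + 1`, `s + 1` fixed points,
`s = q ^ 3`, `t` one of `Q`, `Q ^ 2`, `Q ^ 3`.  As `m ≤ a (s + 1)`, this forces `b = a` and `t = s`.
-/

set_option autoImplicit false

namespace CfsgLib.SECrit.Cube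

/-- The window for `t (t + 1) b ^ 2` below `q ^ 8`. -/
theorem window {q a m t b : ℕ} (ha : a + 1 = q) (hm0 : 0 < m) (hm : m ≤ a * (q ^ 3 + 1))
    (hts : t < q ^ 3) (he : t * (t + 1) * b ^ 2 + t * m = q ^ 3 * (q ^ 3 + 1) * a ^ 2 + q ^ 3 * m) :
    q ^ 3 * (q ^ 3 + 1) * a ^ 2 < t * (t + 1) * b ^ 2 ∧
      t * (t + 1) * b ^ 2 ≤ q ^ 3 * (q ^ 3 + 1) * a * q := by
  have h1 : t * m < q ^ 3 * m := Nat.mul_lt_mul_of_pos_right hts hm0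
  have h2 : q ^ 3 * m ≤ q ^ 3 * (a * (q ^ 3 + 1)) := Nat.mul_le_mul_left _ hm
  have h3 : q ^ 3 * (q ^ 3 + 1) * a * q =
      q ^ 3 * (q ^ 3 + 1) * a ^ 2 + q ^ 3 * (a * (q ^ 3 + 1)) := by rw [← ha]; ring
  have h4 : 0 ≤ t * m := Nat.zero_le _
  exact ⟨by linarith, by linarith⟩

theorem low {q a : ℕ} (ha : a + 1 = q) (hq : 4 ≤ q) :
    q ^ 8 < 2 * (q ^ 3 * (q ^ 3 + 1) * a ^ 2) := by
  obtain ⟨a, rfl⟩ : ∃ a', a = a' + 3 := ⟨a - 3, by omega⟩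
  subst ha
  have h0 : (a + 3 + 1) ^ 2 < 2 * (a + 3) ^ 2 := by nlinarith
  calc (a + 3 + 1) ^ 8 = (a + 3 + 1) ^ 6 * (a + 3 + 1) ^ 2 := by ring
    _ < (a + 3 + 1) ^ 6 * (2 * (a + 3) ^ 2) := Nat.mul_lt_mul_of_pos_left h0 (by positivity)
    _ ≤ 2 * ((a + 3 + 1) ^ 3 * ((a + 3 + 1) ^ 3 + 1) * (a + 3) ^ 2) := by ring_nf; omega

theorem high {q a : ℕ} (ha : a + 1 = q) (hq : 4 ≤ q) : q ^ 3 * (q ^ 3 + 1) * a * q < q ^ 8 := by
  subst ha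
  have h3 : 1 ≤ (a + 1) ^ 2 := Nat.one_le_pow _ _ (by omega)
  have h0 : ((a + 1) ^ 3 + 1) * a < (a + 1) ^ 4 := by nlinarith
  calc (a + 1) ^ 3 * ((a + 1) ^ 3 + 1) * a * (a + 1) = (a + 1) ^ 4 * (((a + 1) ^ 3 + 1) * a) := by ring
    _ < (a + 1) ^ 4 * (a + 1) ^ 4 := Nat.mul_lt_mul_of_pos_left h0 (by positivity)
    _ = (a + 1) ^ 8 := by ring

/-- `Q (Q + 1) (Q - 1) ^ 2` lies between `9 / 16` and `1` times `Q ^ 4`. -/
theorem band_one {Q b : ℕ} (hb : b + 1 = Q) (hQ : 4 ≤ Q) :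
    9 * Q ^ 4 ≤ 16 * (Q * (Q + 1) * b ^ 2) ∧ Q * (Q + 1) * b ^ 2 < Q ^ 4 := by
  subst hb
  have h1 : 9 * (b + 1) ^ 2 ≤ 16 * b ^ 2 := by nlinarith
  constructor
  · calc 9 * (b + 1) ^ 4 = (b + 1) ^ 2 * (9 * (b + 1) ^ 2) := by ring
      _ ≤ (b + 1) * (b + 1 + 1) * (16 * b ^ 2) :=
        Nat.mul_le_mul (by nlinarith) h1
      _ = _ := by ring
  · have h2 : (b + 1 + 1) * b ^ 2 < (b + 1) ^ 3 := by nlinarith
    calc (b + 1) * (b + 1 + 1) * b ^ 2 = (b + 1) * ((b + 1 + 1) * b ^ 2) := by ring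
      _ < (b + 1) * (b + 1) ^ 3 := Nat.mul_lt_mul_of_pos_left h2 (by omega)
      _ = _ := by ring

/-- `Q ^ 2 (Q ^ 2 + 1) (Q - 1) ^ 2` lies between `9 / 16` and `1` times `Q ^ 6`. -/
theorem band_two {Q b : ℕ} (hb : b + 1 = Q) (hQ : 4 ≤ Q) :
    9 * Q ^ 6 ≤ 16 * (Q ^ 2 * (Q ^ 2 + 1) * b ^ 2) ∧ Q ^ 2 * (Q ^ 2 + 1) * b ^ 2 < Q ^ 6 := by
  subst hb
  have h1 : 9 * (b + 1) ^ 2 ≤ 16 * b ^ 2 := by nlinarith
  constructor
  · calc 9 * (b + 1) ^ 6 = (b + 1) ^ 2 * (b + 1) ^ 2 * (9 * (b + 1) ^ 2) := by ring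
      _ ≤ (b + 1) ^ 2 * ((b + 1) ^ 2 + 1) * (16 * b ^ 2) :=
        Nat.mul_le_mul (Nat.mul_le_mul_left _ (Nat.le_succ _)) h1
      _ = _ := by ring
  · have h2 : ((b + 1) ^ 2 + 1) * b ^ 2 < (b + 1) ^ 4 := by nlinarith
    calc (b + 1) ^ 2 * ((b + 1) ^ 2 + 1) * b ^ 2 = (b + 1) ^ 2 * (((b + 1) ^ 2 + 1) * b ^ 2) := by ring
      _ < (b + 1) ^ 2 * (b + 1) ^ 4 := Nat.mul_lt_mul_of_pos_left h2 (by positivity)
      _ = _ := by ring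

/-- The exponent `6 γ = 8 β` is out of the window. -/
theorem edge {u a b : ℕ} (hu : 2 ≤ u) (ha : a + 1 = u ^ 3) (hb : b + 1 = u ^ 4) :
    (u ^ 3) ^ 3 * ((u ^ 3) ^ 3 + 1) * a * u ^ 3 < (u ^ 4) ^ 2 * ((u ^ 4) ^ 2 + 1) * b ^ 2 := by
  have key : (u : ℤ) ^ 4 * (((u : ℤ) ^ 3) ^ 3 + 1) * ((u : ℤ) ^ 3 - 1) <
      (((u : ℤ) ^ 4) ^ 2 + 1) * ((u : ℤ) ^ 4 - 1) ^ 2 := by
    have h2 : (2 : ℤ) ≤ u := by exact_mod_cast hu
    have e : (((u : ℤ) ^ 4) ^ 2 + 1) * ((u : ℤ) ^ 4 - 1) ^ 2 -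
        (u : ℤ) ^ 4 * (((u : ℤ) ^ 3) ^ 3 + 1) * ((u : ℤ) ^ 3 - 1) =
        (u : ℤ) ^ 12 * (u - 2) + (u : ℤ) ^ 4 * ((u : ℤ) ^ 3 * (2 * u - 1) - 1) + 1 := by ring
    have h3 : (1 : ℤ) ≤ (u : ℤ) ^ 3 := one_le_pow₀ (by linarith)
    have h4 : (0 : ℤ) ≤ (u : ℤ) ^ 3 * (2 * u - 1) - 1 := by nlinarith
    have h5 : (0 : ℤ) ≤ (u : ℤ) ^ 12 * (u - 2) := mul_nonneg (by positivity) (by linarith)
    have h6 : (0 : ℤ) ≤ (u : ℤ) ^ 4 * ((u : ℤ) ^ 3 * (2 * u - 1) - 1) := mul_nonneg (by positivity) h4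
    linarith
  have hai : (a : ℤ) = (u : ℤ) ^ 3 - 1 := by
    have : ((a : ℤ) + 1) = (u : ℤ) ^ 3 := by exact_mod_cast ha
    linarith
  have hbi : (b : ℤ) = (u : ℤ) ^ 4 - 1 := by
    have : ((b : ℤ) + 1) = (u : ℤ) ^ 4 := by exact_mod_cast hb
    linarith
  zify
  rw [hai, hbi]
  calc ((u : ℤ) ^ 3) ^ 3 * (((u : ℤ) ^ 3) ^ 3 + 1) * ((u : ℤ) ^ 3 - 1) * (u : ℤ) ^ 3
      = (u : ℤ) ^ 8 * ((u : ℤ) ^ 4 * (((u : ℤ) ^ 3) ^ 3 + 1) * ((u : ℤ) ^ 3 - 1)) := by ring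
    _ < (u : ℤ) ^ 8 * ((((u : ℤ) ^ 4) ^ 2 + 1) * ((u : ℤ) ^ 4 - 1) ^ 2) :=
      mul_lt_mul_of_pos_left key (pow_pos (by have : (2 : ℤ) ≤ u := (by exact_mod_cast hu); linarith) 8)
    _ = _ := by ring

/-- **Uniformity.** -/
theorem uniform {β γ k j m a b : ℕ} (hβ : a + 1 = 2 ^ β) (hβ2 : 2 ≤ β) (hγ : b + 1 = 2 ^ γ) (hab : a ≤ b)
    (hk : k = γ ∨ k = γ * 2 ∨ k = γ * 3) (hm : m = (2 ^ β * j + 1) * a)
    (hr : 2 ^ β * j + 1 ≤ 2 ^ (β * 3) + 1)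
    (he : 2 ^ k * (2 ^ k + 1) * b ^ 2 + 2 ^ k * m =
      2 ^ (β * 3) * (2 ^ (β * 3) + 1) * a ^ 2 + 2 ^ (β * 3) * m) :
    b = a ∧ k = β * 3 := by
  have hq : 4 ≤ 2 ^ β := le_trans (by norm_num) (Nat.pow_le_pow_right (n := 2) (by norm_num) hβ2)
  have hβγ : β ≤ γ := (Nat.pow_le_pow_iff_right (a := 2) one_lt_two).1 (by omega)
  have ha0 : 0 < a := by omega
  have hm0 : 0 < m := by rw [hm]; positivity
  rcases lt_or_ge k (β * 3) with hlt | hge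
  · exfalso
    have hts : 2 ^ k < 2 ^ (β * 3) := Nat.pow_lt_pow_right one_lt_two hlt
    rw [show (2 : ℕ) ^ (β * 3) = (2 ^ β) ^ 3 from pow_mul 2 β 3] at he hts hr
    obtain ⟨hlo, hhi⟩ := window hβ hm0 (by rw [hm, mul_comm a]; exact Nat.mul_le_mul_right _ hr) hts he
    have hl := low hβ hq
    have hh := high hβ hq
    have hQ : 4 ≤ 2 ^ γ := le_trans hq (Nat.pow_le_pow_right (by norm_num) hβγ)
    rcases hk with rfl | rfl | rfl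
    · obtain ⟨b1, b2⟩ := band_one hγ hQ
      have e1 : β * 8 < k * 4 + 1 := by
        refine (Nat.pow_lt_pow_iff_right (a := 2) one_lt_two).1 ?_
        rw [pow_succ, pow_mul, pow_mul]
        omega
      have e2 : k * 4 < β * 8 + 1 := by
        by_contra hh'
        have : 2 * (2 ^ β) ^ 8 ≤ (2 ^ k) ^ 4 := by
          rw [← pow_mul, ← pow_mul, ← pow_succ']
          exact Nat.pow_le_pow_right (by norm_num) (by omega)
        omega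
      obtain rfl : k = 2 * β := by omega
      have hbi : b = a * (2 ^ β + 1) := by
        have : (2 : ℕ) ^ (2 * β) = (2 ^ β) ^ 2 := by rw [mul_comm, pow_mul]
        rw [this, ← hβ] at hγ
        rw [← hβ]
        nlinarith
      rw [show (2 : ℕ) ^ (2 * β) = (2 ^ β) ^ 2 by rw [mul_comm, pow_mul], hbi, hm] at he
      have hq' : (2 : ℕ) ^ β = a + 1 := hβ.symm
      set r := 2 ^ β * j + 1
      rw [hq'] at he hr
      -- `r = 2 q ^ 3 + 2 q ^ 2 + q + 1`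
      have hr' : r = 2 * (a + 1) ^ 3 + 2 * (a + 1) ^ 2 + (a + 1) + 1 := by
        have h0 : 0 < (a + 1) ^ 2 * a ^ 2 := by positivity
        refine Nat.eq_of_mul_eq_mul_left h0 ?_
        nlinarith [he]
      have : 1 ≤ (a + 1) ^ 3 := Nat.one_le_pow _ _ (by omega)
      omega
    · rw [show (2 : ℕ) ^ (γ * 2) = (2 ^ γ) ^ 2 from pow_mul 2 γ 2] at hlo hhi
      obtain ⟨b1, b2⟩ := band_two hγ hQ
      have e1 : β * 8 < γ * 6 + 1 := by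
        refine (Nat.pow_lt_pow_iff_right (a := 2) one_lt_two).1 ?_
        rw [pow_succ, pow_mul, pow_mul]
        omega
      have e2 : γ * 6 < β * 8 + 2 := by
        by_contra hh'
        have : 2 * (2 ^ β) ^ 8 ≤ (2 ^ γ) ^ 6 := by
          rw [← pow_mul, ← pow_mul, ← pow_succ']
          exact Nat.pow_le_pow_right (by norm_num) (by omega)
        omega
      obtain ⟨n, rfl⟩ : ∃ n, β = n * 3 := ⟨β / 3, by omega⟩
      obtain rfl : γ = n * 4 := by omega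
      have hn : 2 ≤ 2 ^ n := by
        calc 2 = 2 ^ 1 := rfl
          _ ≤ 2 ^ n := Nat.pow_le_pow_right (by norm_num) (by omega)
      rw [pow_mul] at hβ hhi hγ
      rw [pow_mul] at hhi
      exact absurd hhi (not_le.2 (edge hn hβ hγ))
    · omega
  · -- monotony
    rcases eq_or_lt_of_le hab with rfl | hlt
    · rcases eq_or_lt_of_le hge with h1 | h1
      · exact ⟨rfl, h1.symm⟩
      · exfalso
        have h2 : 2 ^ (β * 3) < 2 ^ k := Nat.pow_lt_pow_right one_lt_two h1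
        have h3 : 2 ^ (β * 3) * m < 2 ^ k * m := Nat.mul_lt_mul_of_pos_right h2 hm0
        have h4 : 2 ^ (β * 3) * (2 ^ (β * 3) + 1) * a ^ 2 ≤ 2 ^ k * (2 ^ k + 1) * a ^ 2 :=
          Nat.mul_le_mul_right _ (Nat.mul_le_mul h2.le (by omega))
        omega
    · exfalso
      have h2 : 2 ^ (β * 3) ≤ 2 ^ k := Nat.pow_le_pow_right (by norm_num) hge
      have h3 : 2 ^ (β * 3) * m ≤ 2 ^ k * m := Nat.mul_le_mul_right _ h2
      have h4 : 2 ^ (β * 3) * (2 ^ (β * 3) + 1) * a ^ 2 < 2 ^ k * (2 ^ k + 1) * b ^ 2 :=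
        calc 2 ^ (β * 3) * (2 ^ (β * 3) + 1) * a ^ 2
            < 2 ^ (β * 3) * (2 ^ (β * 3) + 1) * b ^ 2 :=
              Nat.mul_lt_mul_of_pos_left (Nat.pow_lt_pow_left hlt two_ne_zero) (by positivity)
          _ ≤ _ := Nat.mul_le_mul_right _ (Nat.mul_le_mul h2 (by omega))
      omega

end CfsgLib.SECrit.Cube
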