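import Cfsg.Agent.Lib.Invol.SECriterion.Cube.Base
import Cfsg.Agent.Lib.Invol.SECriterion.Shape.CosetSq
import Cfsg.Agent.Lib.Invol.SECriterion.Shape.CosetZeros

/-!
# The Sylow group of the stabilizer of the coset of the line

It centralizes the line (an element moving it would leave a large isotropic subgroup), it has order
`2 q ^ 4`, all its squares lie in the line, and it has at least `q (q ^ 2 + q)` elements of square one.
-/

set_option autoImplicit false
set_option linter.style.haveILetI false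

namespace CfsgLib.SECrit

open CfsgLib.Invol Subgroup

universe u

variable {G : Type u} [Group G] {M : Subgroup G} {z : G}

/-- The stabilizer at `p` of the coset of the line. -/
def cosetStab (z x : G) (p : G ⧸ M) : Subgroup G where
  carrier := {g | g • p = p ∧ (∀ d, d ∈ lineGrp z x p ↔ g * d * g⁻¹ ∈ lineGrp z x p) ∧
    g * x * g⁻¹ * x⁻¹ ∈ lineGrp z x p}
  one_mem' := ⟨one_smul _ p, fun d => by simp, by simp⟩
  mul_mem' := fun {g g'} hg hg' => ⟨by rw [mul_smul, hg'.1, hg.1], fun d => by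
      rw [hg'.2.1 d, hg.2.1 (g' * d * g'⁻¹), show g * g' * d * (g * g')⁻¹ = g * (g' * d * g'⁻¹) * g⁻¹ by group], by
      rw [show g * g' * x * (g * g')⁻¹ * x⁻¹ = g * (g' * x * g'⁻¹ * x⁻¹) * g⁻¹ * (g * x * g⁻¹ * x⁻¹) by group]
      exact mul_mem ((hg.2.1 _).1 hg'.2.2) hg.2.2⟩
  inv_mem' := fun {g} hg => ⟨inv_smul_eq_iff.2 hg.1.symm, fun d => by
      rw [inv_inv, hg.2.1 (g⁻¹ * d * g), show g * (g⁻¹ * d * g) * g⁻¹ = d by group], by
      rw [inv_inv, hg.2.1, show g * (g⁻¹ * x * g * x⁻¹) * g⁻¹ = (g * x * g⁻¹ * x⁻¹)⁻¹ by group]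
      exact inv_mem hg.2.2⟩

variable [Finite G] (h : Setup M z) (hloc : ∀ x : G, IsBad M x → Local M z x) {x : G} (hx : IsBad M x)
  {p q₀ : G ⧸ M} (hxp : x • p = p) (hq₀ : q₀ ≠ p) (hxq₀ : x • q₀ = q₀) {β : ℕ}
  (hβ : Nat.card (CAt z ({x} : Set G) p) + 1 = 2 ^ β) (hβ2 : 2 ≤ β) {P : Subgroup G}
  (hd : RegData M z x p P)
  (htwo : ∀ (g : G) (k : ℕ), g ^ 2 ^ k = 1 → g ∈ twoPt x p q₀ → g = 1 ∨ g = x) (hxP : x ∉ P)
include h hloc hx hxp hq₀ hxq₀ hβ hβ2 hd htwo hxP

omit hβ hβ2 hxP in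
/-- Two-elements centralizing `x` at `p` centralize the line. -/
theorem Setup.commute_line_of_cent {u : G} {k : ℕ} (huk : u ^ 2 ^ k = 1) (hxu : Commute x u)
    (hup : u • p = p) {e : G} (he : e ∈ lineGrp z x p) : Commute u e := by
  have hxe : Commute x e := ((h.mem_lineGrp (hloc x hx)).1 he).elim (fun e1 => e1 ▸ Commute.one_right x)
    fun hh => hh.2.2
  rcases hd.mem_or (invol_mul_self hx.1) hxp hq₀ hxq₀ htwo huk hxu hup with h1 | h1
  · exact (hd.comm e he u h1).symm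
  · have h2 := hxe.mul_left (hd.comm e he _ h1).symm
    rwa [← mul_assoc, invol_mul_self hx.1, one_mul] at h2

/-- **No element moving the line has its square in the centralizer of `x` and the line.** -/
theorem Setup.false_of_move_line {g : G} (hg : g ∈ cosetStab z x p) {k : ℕ} (hgk : g ^ 2 ^ k = 1)
    (hmove : ∃ d ∈ lineGrp z x p, ¬ Commute g d) (hg2x : Commute x (g * g)) : False := by
  classical
  have hl := hloc x hx
  set E := lineGrp z x p with hEdef
  have hxx := invol_mul_self hx.1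
  have hxi := invol_inv hx.1
  have hxE : ∀ e ∈ E, Commute x e := fun e he =>
    ((h.mem_lineGrp hl).1 he).elim (fun e1 => e1 ▸ Commute.one_right x) fun hh => hh.2.2
  have hP1 : ∀ v ∈ P, v ∈ P ∧ x * v ∉ P := fun v hv =>
    ⟨hv, fun hh => hxP (by simpa using mul_mem hh (inv_mem hv))⟩
  have hker : ∀ v ∈ P, v ∈ locKer M z x → v = 1 := fun v hv hvK => by
    obtain ⟨-, hvp, j, hj⟩ := (hd.mem v).1 hv
    exact (htwo v j hj ⟨⟨mem_centralizer_singleton_iff.2 (hd.commute hv).eq.symm,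
      MulAction.mem_stabilizer_iff.2 hvp⟩, MulAction.mem_stabilizer_iff.2 ((mem_locKer.1 hvK).2 q₀ hxq₀)⟩).resolve_right
        fun e => hxP (e ▸ hv)
  have ha : 2 ≤ Nat.card (CAt z ({x} : Set G) p) := by
    have : 4 ≤ 2 ^ β := le_trans (by norm_num) (Nat.pow_le_pow_right (n := 2) (by norm_num) hβ2)
    omega
  obtain ⟨hF, hEc, hPc⟩ := h.sqForm hx hxp hl hd hβ hβ2 hker
    fun v hv => h.sq_mem_line hloc hx hxp ha hd hq₀ hxq₀ htwo hv
  set E' := E.subgroupOf P with hE'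
  -- the translation
  set e₀ := g * x * g⁻¹ * x⁻¹ with he₀
  have he₀E : e₀ ∈ E := hg.2.2
  have hgx : g * x * g⁻¹ = e₀ * x := by rw [he₀, inv_mul_cancel_right]
  have hexP : e₀ * x ∉ P := fun hh => hxP (by simpa using mul_mem (inv_mem (hd.line_le he₀E)) hh)
  -- conjugation by `g` on `P`
  have hconj : ∀ v ∈ P, g * v * g⁻¹ ∈ P ∨ x * (g * v * g⁻¹) ∈ P := by
    intro v hv
    obtain ⟨-, hvp, j, hj⟩ := (hd.mem v).1 hv
    have hce : ∀ d ∈ E, Commute d (g * v * g⁻¹) := fun d hd' => by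
      have h1 : g⁻¹ * d * g ∈ E := (hg.2.1 _).2 (by rwa [show g * (g⁻¹ * d * g) * g⁻¹ = d by group])
      have h2 := (hd.comm _ h1 v hv).conj g
      rwa [show g * (g⁻¹ * d * g) * g⁻¹ = d by group] at h2
    have h3 : Commute (e₀ * x) (g * v * g⁻¹) := hgx ▸ (hd.commute hv).conj g
    have h4 := (hce e₀⁻¹ (inv_mem he₀E)).mul_left h3
    rw [inv_mul_cancel_left] at h4
    refine hd.mem_or hxx hxp hq₀ hxq₀ htwo (k := j) ?_ h4 ?_
    · rw [conj_pow, hj, mul_one, mul_inv_cancel]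
    · rw [mul_smul, mul_smul, inv_smul_eq_iff.2 hg.1.symm, hvp, hg.1]
  have huniq : ∀ w t t' : G, t ∈ P → t' ∈ P → (t = w ∨ t = x * w) → (t' = w ∨ t' = x * w) → t = t' := by
    rintro w t t' ht ht' (rfl | rfl) (rfl | rfl)
    exacts [rfl, absurd ht' (hP1 _ ht).2, absurd ht (hP1 _ ht').2, rfl]
  let tw : G → G := fun v => if g * v * g⁻¹ ∈ P then g * v * g⁻¹ else x * (g * v * g⁻¹)
  have htw : ∀ v : G, tw v = g * v * g⁻¹ ∨ tw v = x * (g * v * g⁻¹) := fun v => by
    simp only [tw]; split_ifs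
    exacts [Or.inl rfl, Or.inr rfl]
  have htwP : ∀ v ∈ P, tw v ∈ P := fun v hv => by
    simp only [tw]; split_ifs with h1
    exacts [h1, (hconj v hv).resolve_left h1]
  let φ : P →* P :=
    { toFun := fun v => ⟨tw v, htwP v v.2⟩
      map_one' := Subtype.ext (by simp [tw])
      map_mul' := fun v w => Subtype.ext (by
        show tw ((v : G) * w) = tw v * tw w
        refine huniq (g * ((v : G) * w) * g⁻¹) _ _ (htwP _ (mul_mem v.2 w.2))
          (mul_mem (htwP _ v.2) (htwP _ w.2)) (htw _) ?_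
        have hxv : Commute (g * (v : G) * g⁻¹) x := by
          have h1 := hd.commute (htwP _ v.2)
          rcases htw (v : G) with e | e <;> rw [e] at h1
          · exact h1.symm
          · have h2 := ((Commute.refl x).mul_right h1).symm
            rwa [← mul_assoc, hxx, one_mul] at h2
        have hm : g * ((v : G) * w) * g⁻¹ = g * (v : G) * g⁻¹ * (g * (w : G) * g⁻¹) := by group
        rcases htw (v : G) with e1 | e1 <;> rcases htw (w : G) with e2 | e2 <;> rw [e1, e2, hm]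
        · exact Or.inl rfl
        · exact Or.inr (by rw [← mul_assoc, hxv.eq]; simp only [mul_assoc])
        · exact Or.inr (by simp only [mul_assoc])
        · refine Or.inl ?_
          rw [mul_assoc x (g * ↑v * g⁻¹), ← mul_assoc (g * ↑v * g⁻¹) x, hxv.eq]
          simp only [← mul_assoc, hxx, one_mul]) }
  haveI : E'.Normal := ⟨fun n hn w => by
    rwa [show w * n = n * w from Subtype.ext ((hd.comm _ hn _ w.2).eq.symm), mul_inv_cancel_right]⟩
  set π := QuotientGroup.mk' E' with hπ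
  have hπ1 : ∀ v : P, π v = 1 ↔ (v : G) ∈ E := fun v => by
    rw [hπ, QuotientGroup.mk'_apply, QuotientGroup.eq_one_iff, hE', mem_subgroupOf]
  have hsq2 : ∀ b : P ⧸ E', b * b = 1 := fun b => by
    obtain ⟨v, rfl⟩ := QuotientGroup.mk'_surjective E' b
    rw [← map_mul]; exact (QuotientGroup.eq_one_iff _).2 (hF.sq v)
  have hinv : ∀ b : P ⧸ E', b⁻¹ = b := fun b => inv_eq_of_mul_eq_one_right (hsq2 b)
  have hab : ∀ b c : P ⧸ E', b * c = c * b := fun b c => by
    have := hinv (b * c)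
    rw [mul_inv_rev, hinv, hinv] at this
    exact this.symm
  let ψ : P →* P ⧸ E' :=
    { toFun := fun v => π v * π (φ v)
      map_one' := by simp
      map_mul' := fun v w => by
        rw [map_mul, map_mul, map_mul, mul_assoc, ← mul_assoc (π w), hab (π w) (π (φ v)), mul_assoc, ← mul_assoc] }
  -- `φ` squares to the identity modulo the line
  have hφφ : ∀ v : P, π (φ (φ v)) = π v := by
    intro v
    obtain ⟨y, hy, hy'⟩ : ∃ y ∈ P, g * g * (v : G) * (g * g)⁻¹ = y * v * y⁻¹ := by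
      rcases hd.mem_or hxx hxp hq₀ hxq₀ htwo (k := k) (by
        rw [← pow_two, ← pow_mul, mul_comm, pow_mul, hgk, one_pow]) hg2x
        (by rw [mul_smul, hg.1, hg.1]) with h1 | h1
      · exact ⟨_, h1, rfl⟩
      · refine ⟨_, h1, ?_⟩
        have h2 : Commute x (g * g * (v : G) * (g * g)⁻¹) :=
          (hg2x.mul_right (hd.commute v.2)).mul_right hg2x.inv_right
        rw [show x * (g * g) * (v : G) * (x * (g * g))⁻¹ = x * (g * g * (v : G) * (g * g)⁻¹) * x⁻¹ by group,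
          h2.eq, mul_inv_cancel_right]
    have hv2 : π ⟨y * v * y⁻¹, mul_mem (mul_mem hy v.2) (inv_mem hy)⟩ = π v := by
      rw [show (⟨y * v * y⁻¹, _⟩ : P) = ⟨y, hy⟩ * v * ⟨y, hy⟩⁻¹ from rfl, map_mul, map_mul, map_inv, hab (π ⟨y, hy⟩),
        mul_inv_cancel_right]
    rw [← hv2]
    have hin : (φ (φ v) : G) * (y * v * y⁻¹)⁻¹ ∈ P :=
      mul_mem (φ (φ v)).2 (inv_mem (mul_mem (mul_mem hy v.2) (inv_mem hy)))
    have hcases : ∃ f : G, (f = 1 ∨ f = x ∨ f = e₀ * x ∨ f = e₀) ∧ (φ (φ v) : G) = f * (y * v * y⁻¹) := by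
      rcases htw (φ v : G) with e1 | e1 <;> rcases htw (v : G) with e2 | e2
      · exact ⟨1, Or.inl rfl, by
          show tw (φ v : G) = _
          rw [e1, show (φ v : G) = tw v from rfl, e2, ← hy', one_mul]; group⟩
      · exact ⟨e₀ * x, Or.inr (Or.inr (Or.inl rfl)), by
          show tw (φ v : G) = _
          rw [e1, show (φ v : G) = tw v from rfl, e2, ← hy', ← hgx]; group⟩
      · exact ⟨x, Or.inr (Or.inl rfl), by
          show tw (φ v : G) = _
          rw [e1, show (φ v : G) = tw v from rfl, e2, ← hy']; group⟩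
      · refine ⟨e₀, Or.inr (Or.inr (Or.inr rfl)), ?_⟩
        show tw (φ v : G) = _
        rw [e1, show (φ v : G) = tw v from rfl, e2, ← hy', show g * (x * (g * ↑v * g⁻¹)) * g⁻¹ =
          g * x * g⁻¹ * (g * g * ↑v * (g * g)⁻¹) by group, hgx, ← mul_assoc, ← mul_assoc x,
          (hxE e₀ he₀E).eq, mul_assoc e₀ x x, hxx, mul_one]
    obtain ⟨f, hf, hfe⟩ := hcases
    rw [hfe, mul_inv_cancel_right] at hin
    have hfE : f ∈ E := by
      rcases hf with rfl | rfl | rfl | rfl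
      exacts [one_mem _, absurd hin hxP, absurd hin hexP, he₀E]
    rw [show φ (φ v) = ⟨f, hd.line_le hfE⟩ * ⟨y * v * y⁻¹, mul_mem (mul_mem hy v.2) (inv_mem hy)⟩ from
      Subtype.ext hfe, map_mul, (hπ1 _).2 hfE, one_mul]
  set W := ψ.ker with hW
  have hEW : E' ≤ W := fun v hv => by
    show π v * π (φ v) = 1
    rw [(hπ1 v).2 (mem_subgroupOf.1 hv), one_mul, hπ1]
    show tw (v : G) ∈ E
    have h1 : g * (v : G) * g⁻¹ ∈ E := (hg.2.1 _).1 (mem_subgroupOf.1 hv)
    simp only [tw, if_pos (hd.line_le h1)]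
    exact h1
  have hrange : ψ.range ≤ W.map π := by
    rintro _ ⟨v, rfl⟩
    refine ⟨v * φ v, ?_, map_mul π _ _⟩
    show π (v * φ v) * π (φ (v * φ v)) = 1
    rw [map_mul, map_mul, map_mul, hφφ, hab (π (φ v)) (π v), hsq2]
  have hWge : Nat.card E' ^ 2 ≤ Nat.card W := by
    have h1 : Nat.card ψ.range * Nat.card W = Nat.card P := by
      rw [hW, ← Subgroup.index_ker, Subgroup.index_mul_card]
    have h2 := Subgroup.card_le_of_le hrange
    have h3 : Nat.card (W.map π) * Nat.card E' = Nat.card W := by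
      have h4 := (π.subgroupMap W).ker.index_mul_card
      rw [Subgroup.index_ker, MonoidHom.range_eq_top.2 (π.subgroupMap_surjective W), Subgroup.card_top] at h4
      rw [← h4]
      congr 1
      exact Nat.card_congr
        { toFun := fun e => ⟨⟨e.1, hEW e.2⟩, Subtype.ext ((QuotientGroup.eq_one_iff _).2 e.2)⟩
          invFun := fun v => ⟨v.1.1, (QuotientGroup.eq_one_iff _).1 (congrArg Subtype.val v.2)⟩
          left_inv := fun _ => rfl
          right_inv := fun _ => rfl }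
    have h5 : Nat.card P = Nat.card E' ^ 3 := hF.card_eq
    have hpos : 0 < Nat.card E' := Nat.card_pos
    by_contra hlt
    push Not at hlt
    have h6 : Nat.card ψ.range * Nat.card E' ≤ Nat.card W := h3 ▸ Nat.mul_le_mul_right _ h2
    have h7 : Nat.card E' ^ 3 * Nat.card E' ≤ Nat.card W * Nat.card W := by
      rw [← h5, ← h1, mul_right_comm]
      exact Nat.mul_le_mul_right _ h6
    have h8 : Nat.card W * Nat.card W < Nat.card E' ^ 2 * Nat.card E' ^ 2 := Nat.mul_self_lt_mul_self hlt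
    have h9 : Nat.card E' ^ 3 * Nat.card E' = Nat.card E' ^ 2 * Nat.card E' ^ 2 := by ring
    omega
  -- the squares of `W` are centralized by `g`
  let K : Subgroup E' :=
    { carrier := {b | Commute g ((b : P) : G)}
      one_mem' := Commute.one_right g
      mul_mem' := fun {b c} hb hc => by
        show Commute g ((b : P) * (c : P) : G)
        exact Commute.mul_right hb hc
      inv_mem' := fun {b} hb => by
        show Commute g ((b : P) : G)⁻¹
        exact Commute.inv_right hb }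
  have hK : K ≠ ⊤ := fun hh => by
    obtain ⟨d, hdE, hgd⟩ := hmove
    exact hgd (show (⟨⟨d, hd.line_le hdE⟩, hdE⟩ : E') ∈ K from hh ▸ mem_top _)
  refine absurd (hF.card_lt_of_sq_le hEW hK fun v hv => ?_) (not_lt.2 hWge)
  show Commute g ((v : G) * v)
  have h1 : π (φ v) = π v := by
    have h2 : π v * π (φ v) = 1 := hv
    rw [eq_inv_of_mul_eq_one_right h2, hinv]
  have hf : (φ v : G) * (v : G)⁻¹ ∈ E := by
    have := (hπ1 (φ v * v⁻¹)).1 (by rw [map_mul, map_inv, h1, mul_inv_cancel])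
    exact this
  set f := (φ v : G) * (v : G)⁻¹ with hfdef
  have hfv : (φ v : G) = f * v := by rw [hfdef, inv_mul_cancel_right]
  have hff : f * f = 1 := ((h.mem_lineGrp hl).1 hf).elim (fun e => by rw [e, one_mul])
    fun hh => invol_mul_self (h.crit.orderOf_conj hh.1)
  have h3 : (φ v : G) * φ v = (v : G) * v := by
    rw [hfv, (hd.comm f hf v v.2).symm.mul_mul_mul_comm, hff, one_mul]
  have h4 : (φ v : G) * φ v = g * ((v : G) * v) * g⁻¹ := by
    rcases htw (v : G) with e | e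
    · rw [show (φ v : G) = tw v from rfl, e]; group
    · have hc : Commute x (g * (v : G) * g⁻¹) := by
        have h5 := hd.commute (φ v).2
        rw [show (φ v : G) = tw v from rfl, e] at h5
        have h6 := (Commute.refl x).mul_right h5
        rwa [← mul_assoc, hxx, one_mul] at h6
      rw [show (φ v : G) = tw v from rfl, e, hc.symm.mul_mul_mul_comm, hxx, one_mul]; group
  exact (mul_inv_eq_iff_eq_mul.1 (h4.symm.trans h3))

/-- **Two-elements of the stabilizer of the coset centralize the line.** -/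
theorem Setup.commute_line_of_stab {g : G} (hg : g ∈ cosetStab z x p) {k : ℕ} (hgk : g ^ 2 ^ k = 1) {d : G}
    (hdE : d ∈ lineGrp z x p) : Commute g d := by
  classical
  have hl := hloc x hx
  have hxx := invol_mul_self hx.1
  set E := lineGrp z x p with hEdef
  set N := cosetStab z x p with hNdef
  have hE : ∀ d ∈ E, d = 1 ∨ (IsConj z d ∧ d • p = p ∧ Commute x d) := fun d hd' => (h.mem_lineGrp hl).1 hd'
  let ρ : N →* Equiv.Perm E :=
    { toFun := fun n =>
        { toFun := fun e => ⟨(n : G) * e * (n : G)⁻¹, (n.2.2.1 _).1 e.2⟩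
          invFun := fun e => ⟨(n : G)⁻¹ * e * n, (n.2.2.1 _).2 (by
            rw [show (n : G) * ((n : G)⁻¹ * e * n) * (n : G)⁻¹ = e by group]; exact e.2)⟩
          left_inv := fun e => Subtype.ext (show (n : G)⁻¹ * ((n : G) * e * (n : G)⁻¹) * n = e by group)
          right_inv := fun e => Subtype.ext (show (n : G) * ((n : G)⁻¹ * e * n) * (n : G)⁻¹ = e by group) }
      map_one' := Equiv.ext fun e => Subtype.ext (show ((1 : N) : G) * e * ((1 : N) : G)⁻¹ = e by simp)
      map_mul' := fun n m => Equiv.ext fun e => Subtype.ext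
        (show ((n * m : N) : G) * e * ((n * m : N) : G)⁻¹ = n * ((m : G) * e * (m : G)⁻¹) * (n : G)⁻¹ by
          simp [mul_assoc]) }
  have hρ : ∀ n : N, ρ n = 1 ↔ ∀ e ∈ E, Commute (n : G) e := fun n =>
    ⟨fun hh e he => mul_inv_eq_iff_eq_mul.1 (congrArg Subtype.val (Equiv.congr_fun hh ⟨e, he⟩)),
      fun hh => Equiv.ext fun e => Subtype.ext (mul_inv_eq_iff_eq_mul.2 (hh e e.2))⟩
  suffices hmain : ρ ⟨g, hg⟩ = 1 from (hρ _).1 hmain d hdE
  set gN : N := ⟨g, hg⟩
  have hgN : gN ^ 2 ^ k = 1 := Subtype.ext hgk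
  by_cases hn : ∃ n : N, ρ n = 1 ∧ ¬ Commute x (n : G)
  · -- every translation is one by an element centralizing the line
    obtain ⟨n, hn1, hnx⟩ := hn
    set t := (n : G) * x * (n : G)⁻¹ * x⁻¹ with ht
    have ht1 : t ≠ 1 := fun e => hnx (mul_inv_eq_iff_eq_mul.1 (mul_inv_eq_one.1 e)).symm
    set e₀ := g * x * g⁻¹ * x⁻¹ with he₀
    obtain ⟨m, hm1, hmx⟩ : ∃ m : N, ρ m = 1 ∧ (m : G) * x * (m : G)⁻¹ * x⁻¹ = e₀ := by
      by_cases he1 : e₀ = 1
      · exact ⟨1, map_one ρ, by rw [he1]; simp⟩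
      obtain ⟨hdt, -, hxt⟩ := (hE t n.2.2.2).resolve_left ht1
      obtain ⟨hde, hep, hxe⟩ := (hE e₀ hg.2.2).resolve_left he1
      obtain ⟨c, hcA, hce⟩ := h.crit.exists_conj_commuting (Crit.isPGroup_zpowers_invol hx.1) hq₀.symm
        (Crit.forall_zpowers_fix hxp) (Crit.forall_zpowers_fix hxq₀) hdt hde (forall_zpowers_commute hxt)
        (forall_zpowers_commute hxe)
      have hcx : Commute x c := hcA x (mem_zpowers x)
      have hcp : c • p = p := h.crit.smul_eq_of_conj hde hce ((hE t n.2.2.2).resolve_left ht1).2.1 hep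
      have hcN : c ∈ N := by
        refine ⟨hcp, fun d => ⟨fun hd' => ?_, fun hd' => ?_⟩, by rw [← hcx.eq]; simp⟩
        · exact h.conj_lineGrp hloc hx hcp (by rw [← hcx.eq]; simp [hxx]) hd'
        · have h1 := h.conj_lineGrp hloc hx (g := c⁻¹) (inv_smul_eq_iff.2 hcp.symm)
            (by rw [← hcx.inv_right.eq]; simp [hxx]) hd'
          rwa [show c⁻¹ * (c * d * c⁻¹) * c⁻¹⁻¹ = d by group] at h1
      refine ⟨⟨c, hcN⟩ * n * ⟨c, hcN⟩⁻¹, by rw [map_mul, map_mul, map_inv, hn1, mul_one, mul_inv_cancel], ?_⟩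
      show c * n * c⁻¹ * x * (c * n * c⁻¹)⁻¹ * x⁻¹ = e₀
      rw [← hce, ht]
      have h2 : c⁻¹ * x = x * c⁻¹ := hcx.inv_right.eq.symm
      calc c * n * c⁻¹ * x * (c * n * c⁻¹)⁻¹ * x⁻¹ = c * n * (c⁻¹ * x) * c * (n : G)⁻¹ * c⁻¹ * x⁻¹ := by group
        _ = c * (n * x * (n : G)⁻¹) * (c⁻¹ * x⁻¹) := by rw [h2]; group
        _ = _ := by rw [(hcx.inv_left.inv_right.symm).eq]; group
    set c : N := m⁻¹ * gN with hc
    have hcx : Commute x (c : G) := by
      have h1 : (m : G) * x * (m : G)⁻¹ = g * x * g⁻¹ := mul_right_cancel hmx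
      show x * ((m : G)⁻¹ * g) = (m : G)⁻¹ * g * x
      calc x * ((m : G)⁻¹ * g) = (m : G)⁻¹ * ((m : G) * x * (m : G)⁻¹) * g := by group
        _ = _ := by rw [h1]; group
    have hρc : ρ c = ρ gN := by rw [hc, map_mul, map_inv, hm1, inv_one, one_mul]
    obtain ⟨a, b, hb, hab⟩ := Nat.exists_eq_two_pow_mul_odd (orderOf_pos (c : G)).ne'
    have hcb : ρ (c ^ b) = 1 := by
      refine (hρ _).2 fun e he => ?_
      refine h.commute_line_of_cent hloc hx hxp hq₀ hxq₀ hd htwo (k := a) ?_ ?_ ?_ he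
      · rw [SubmonoidClass.coe_pow, ← pow_mul, mul_comm, ← hab, pow_orderOf_eq_one]
      · rw [SubmonoidClass.coe_pow]; exact hcx.pow_right b
      · exact (c ^ b).2.1
    rw [map_pow, hρc, ← orderOf_dvd_iff_pow_eq_one] at hcb
    have h2 : orderOf (ρ gN) ∣ 2 ^ k := orderOf_dvd_of_pow_eq_one (by rw [← map_pow, hgN, map_one])
    rw [← orderOf_eq_one_iff]
    exact Nat.eq_one_of_dvd_coprimes ((Nat.coprime_two_right.2 hb).symm.pow_left k) h2 hcb
  · -- no translation centralizes the line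
    push Not at hn
    by_contra hne
    obtain ⟨j, hj, hj1⟩ : ∃ j, ρ (gN ^ 2 ^ j) ≠ 1 ∧ ρ (gN ^ 2 ^ (j + 1)) = 1 := by
      by_contra hh
      push Not at hh
      have : ∀ j, ρ (gN ^ 2 ^ j) ≠ 1 := fun j => by
        induction j with
        | zero => simpa using hne
        | succ j ih => exact hh j ih
      exact this k (by rw [hgN, map_one])
    have hg' : ¬ ∀ e ∈ E, Commute ((gN ^ 2 ^ j : N) : G) e := fun hh => hj ((hρ _).2 hh)
    push Not at hg'
    refine h.false_of_move_line hloc hx hxp hq₀ hxq₀ hβ hβ2 hd htwo hxP (g := g ^ 2 ^ j)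
      (pow_mem hg _) (k := k) (by rw [← pow_mul, mul_comm, pow_mul, hgk, one_pow]) (by simpa using hg') ?_
    have h1 := hn (gN ^ 2 ^ (j + 1)) hj1
    rwa [pow_succ, pow_mul, pow_two] at h1

/-- **The group of the coset.** -/
theorem Setup.exists_coset_group :
    ∃ R : Subgroup G, IsPGroup 2 R ∧ (∀ g ∈ R, g • p = p) ∧ x ∈ R ∧ lineGrp z x p ≤ R ∧
      (∀ g ∈ R, ∀ e ∈ lineGrp z x p, Commute g e) ∧ (∀ g ∈ R, g * g ∈ lineGrp z x p) ∧
      2 ^ β * ((2 ^ β) ^ 2 + 2 ^ β) ≤ Nat.card {u : R // u * u = 1} ∧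
      (∀ T : Subgroup G, IsPGroup 2 T → R ≤ T →
        (∀ g ∈ T, g • p = p ∧ g * x * g⁻¹ * x ∈ lineGrp z x p) → T ≤ R) ∧
      ∀ e ∈ lineGrp z x p, ∀ f ∈ lineGrp z x p, e ≠ 1 → f ≠ 1 →
        ∃ c : G, c • p = p ∧ Commute c x ∧ c * e * c⁻¹ = f ∧ ∀ g ∈ R, c * g * c⁻¹ ∈ R := by
  classical
  haveI : Fact (Nat.Prime 2) := ⟨Nat.prime_two⟩
  have hl := hloc x hx
  set E := lineGrp z x p with hEdef
  set N := cosetStab z x p with hNdef
  have hxx := invol_mul_self hx.1
  have hxi := invol_inv hx.1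
  have hfour : 4 ≤ 2 ^ β := le_trans (by norm_num) (Nat.pow_le_pow_right (n := 2) (by norm_num) hβ2)
  have ha : 2 ≤ Nat.card (CAt z ({x} : Set G) p) := by omega
  have hxE : ∀ e ∈ E, Commute x e := fun e he =>
    ((h.mem_lineGrp hl).1 he).elim (fun e1 => e1 ▸ Commute.one_right x) fun hh => hh.2.2
  have hker : ∀ v ∈ P, v ∈ locKer M z x → v = 1 := fun v hv hvK => by
    obtain ⟨-, hvp, j, hj⟩ := (hd.mem v).1 hv
    exact (htwo v j hj ⟨⟨mem_centralizer_singleton_iff.2 (hd.commute hv).eq.symm,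
      MulAction.mem_stabilizer_iff.2 hvp⟩, MulAction.mem_stabilizer_iff.2 ((mem_locKer.1 hvK).2 q₀ hxq₀)⟩).resolve_right
        fun e => hxP (e ▸ hv)
  obtain ⟨hF, hEc', hPc⟩ := h.sqForm hx hxp hl hd hβ hβ2 hker
    fun v hv => h.sq_mem_line hloc hx hxp ha hd hq₀ hxq₀ htwo hv
  have hEc : Nat.card E = 2 ^ β := by rw [hEdef, h.card_lineGrp hl, hβ]
  -- membership in the stabilizer
  have hNof : ∀ g : G, g • p = p → g * x * g⁻¹ * x ∈ E → g ∈ N := by
    intro g hgp hgx
    refine ⟨hgp, fun d => ?_, by rwa [hxi]⟩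
    let f : E → E := fun e => ⟨g * e * g⁻¹, h.conj_lineGrp hloc hx hgp hgx e.2⟩
    have hf : Function.Injective f := fun a b hab => Subtype.ext
      (mul_left_cancel (mul_right_cancel (congrArg Subtype.val hab)))
    refine ⟨fun hd' => h.conj_lineGrp hloc hx hgp hgx hd', fun hd' => ?_⟩
    obtain ⟨⟨e, he⟩, hee⟩ := Finite.injective_iff_surjective.1 hf ⟨_, hd'⟩
    rwa [show d = e from (mul_left_cancel (mul_right_cancel (congrArg Subtype.val hee))).symm]
  have hNx : ∀ g ∈ N, g * x * g⁻¹ * x ∈ E := fun g hg => by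
    have := hg.2.2; rwa [hxi] at this
  have hxN : x ∈ N := hNof x hxp (by simp [hxx])
  have hPN : P ≤ N := fun v hv => hNof v ((hd.mem v).1 hv).2.1 (by
    rw [← (hd.commute hv).eq, mul_inv_cancel_right, hxx]; exact one_mem E)
  -- the translations
  choose tr htr using fun e : E => h.exists_translate hloc hx hxp ha e.2
  have htrN : ∀ e : E, tr e ∈ N := fun e => hNof _ (htr e).1 (by
    rw [(htr e).2, mul_assoc, hxx, mul_one]; exact e.2)
  -- the centralizer of `x`
  set C := N ⊓ centralizer ({x} : Set G) with hC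
  have hNcard : Nat.card N = Nat.card E * Nat.card C := by
    rw [← Nat.card_prod]
    refine (Nat.card_eq_of_bijective (fun t : E × C => (⟨tr t.1 * t.2, mul_mem (htrN t.1) t.2.2.1⟩ : N))
      ⟨?_, ?_⟩).symm
    · rintro ⟨e, c⟩ ⟨e', c'⟩ hh
      have h1 : tr e * (c : G) = tr e' * c' := congrArg Subtype.val hh
      have h2 : ∀ (e : E) (c : C), tr e * c * x * (tr e * c)⁻¹ = (e : G) * x := fun e c => by
        rw [show tr e * c * x * (tr e * c)⁻¹ = tr e * ((c : G) * x * (c : G)⁻¹) * (tr e)⁻¹ by group,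
          mem_centralizer_singleton_iff.1 c.2.2, mul_inv_cancel_right, (htr e).2]
      have h3 : (e : G) * x = e' * x := by rw [← h2 e c, h1, h2]
      obtain rfl : e = e' := Subtype.ext (mul_right_cancel h3)
      obtain rfl : c = c' := Subtype.ext (mul_left_cancel h1)
      rfl
    · intro g
      let e : E := ⟨(g : G) * x * (g : G)⁻¹ * x, hNx g g.2⟩
      refine ⟨(e, ⟨(tr e)⁻¹ * g, (mul_mem (inv_mem (htrN e)) g.2 : (tr e)⁻¹ * (g : G) ∈ N), mem_centralizer_singleton_iff.2 ?_⟩),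
        Subtype.ext (mul_inv_cancel_left _ _)⟩
      have h1 := (htr e).2
      rw [show (e : G) * x = (g : G) * x * (g : G)⁻¹ by simp [e, mul_assoc, hxx]] at h1
      calc (tr e)⁻¹ * g * x = (tr e)⁻¹ * ((g : G) * x * (g : G)⁻¹) * g := by group
        _ = x * ((tr e)⁻¹ * g) := by rw [← h1]; group
  -- `P` and `x`
  have hPnx : zpowers x ≤ normalizer (P : Set G) := zpowers_le.2 (mem_normalizer_iff.2 fun g =>
    ⟨fun hg => hd.conj (Commute.refl x) hxp hg, fun hg => by
      have h1 := hd.conj (c := x) (Commute.refl x) hxp hg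
      rwa [hxi, show x * (x * g * x) * x = (x * x) * g * (x * x) by group, hxx, one_mul, mul_one] at h1⟩)
  have hT0 : IsPGroup 2 (zpowers x ⊔ P : Subgroup G) :=
    IsPGroup.to_sup_of_normal_right' (Crit.isPGroup_zpowers_invol hx.1) hd.two hPnx
  have hT0C : zpowers x ⊔ P ≤ C := sup_le (zpowers_le.2 ⟨hxN, mem_centralizer_singleton_iff.2 rfl⟩)
    fun v hv => ⟨hPN hv, mem_centralizer_singleton_iff.2 (hd.commute hv).eq.symm⟩
  have hdvd : 2 ^ (β + (β * 3 + 1)) ∣ Nat.card N := by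
    rw [hNcard, hEc, pow_add]
    refine Nat.mul_dvd_mul_left _ (dvd_trans ?_ (card_dvd_of_le hT0C))
    obtain ⟨n, hn⟩ := hT0.exists_card_eq
    rw [hn]
    refine pow_dvd_pow 2 ((Nat.pow_le_pow_iff_right (le_refl 2)).1 ?_)
    rw [← hn, pow_succ, ← hPc, mul_two, ← Nat.card_sum]
    refine Nat.card_le_card_of_injective (Sum.elim
      (fun v : P => (⟨v, mem_sup_right v.2⟩ : (zpowers x ⊔ P : Subgroup G)))
      fun v : P => ⟨x * v, mul_mem (mem_sup_left (mem_zpowers x)) (mem_sup_right v.2)⟩) ?_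
    rintro (v | v) (w | w) e <;>
      replace e := congrArg (fun t : (zpowers x ⊔ P : Subgroup G) => (t : G)) e <;>
      simp only [Sum.elim_inl, Sum.elim_inr] at e
    · exact congrArg Sum.inl (Subtype.ext e)
    · exact absurd (by rw [eq_mul_inv_of_mul_eq e.symm]; exact mul_mem v.2 (inv_mem w.2)) hxP
    · exact absurd (by rw [eq_mul_inv_of_mul_eq e]; exact mul_mem w.2 (inv_mem v.2)) hxP
    · exact congrArg Sum.inr (Subtype.ext (mul_left_cancel e))
  -- a Sylow group over `P` and `x`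
  obtain ⟨S, hS⟩ := (hT0.comap_subtype (K := N)).exists_le_sylow
  set R := (S : Subgroup N).map N.subtype with hR
  have hR2 : IsPGroup 2 R := S.2.map _
  have hRN : R ≤ N := map_subtype_le _
  have hT0R : zpowers x ⊔ P ≤ R := fun g hg => ⟨⟨g, (hT0C hg).1⟩, hS (mem_subgroupOf.2 hg), rfl⟩
  have hxR : x ∈ R := hT0R (mem_sup_left (mem_zpowers x))
  have hPR : P ≤ R := le_sup_right.trans hT0R
  have hER : E ≤ R := hd.line_le.trans hPR
  have hRp : ∀ g ∈ R, g • p = p := fun g hg => (hRN hg).1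
  have hRk : ∀ g ∈ R, ∃ k : ℕ, g ^ 2 ^ k = 1 := fun g hg =>
    (hR2 ⟨g, hg⟩).imp fun k hk => congrArg Subtype.val hk
  have hRE : ∀ g ∈ R, ∀ e ∈ E, Commute g e := fun g hg e he => by
    obtain ⟨k, hk⟩ := hRk g hg
    exact h.commute_line_of_stab hloc hx hxp hq₀ hxq₀ hβ hβ2 hd htwo hxP (hRN hg) hk he
  have hRcent : ∀ g ∈ R, Commute x g → g ∈ P ∨ x * g ∈ P := fun g hg hxg => by
    obtain ⟨k, hk⟩ := hRk g hg
    exact hd.mem_or hxx hxp hq₀ hxq₀ htwo hk hxg (hRp g hg)
  have hmax' : ∀ T : Subgroup G, IsPGroup 2 T → R ≤ T → T ≤ N → T ≤ R := fun T hT hRT hTN g hg => by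
    have h1 := S.3 (hT.comap_subtype (K := N)) fun n hn =>
      mem_subgroupOf.2 (hRT ⟨n, hn, rfl⟩)
    exact ⟨⟨g, hTN hg⟩, h1 ▸ (mem_subgroupOf.2 hg : (⟨g, hTN hg⟩ : N) ∈ T.subgroupOf N), rfl⟩
  -- all translations lie in `R`
  have hsurj : ∀ e : E, ∃ r ∈ R, r * x * r⁻¹ = (e : G) * x := by
    letI := Fintype.ofFinite R
    letI := Fintype.ofFinite E
    let f : R → E := fun r => ⟨(r : G) * x * (r : G)⁻¹ * x, hNx r (hRN r.2)⟩
    have hfib : ∀ e ∈ Finset.univ.image f, (Finset.univ.filter fun r => f r = e).card ≤ 2 * 2 ^ (β * 3) := by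
      intro e he
      obtain ⟨r₀, -, rfl⟩ := Finset.mem_image.1 he
      rw [← Fintype.card_subtype, ← Nat.card_eq_fintype_card, two_mul, ← hPc, ← Nat.card_sum]
      have hmem : ∀ r : {r : R // f r = f r₀}, (r₀ : G)⁻¹ * r.1 ∈ P ∨ x * ((r₀ : G)⁻¹ * r.1) ∈ P := by
        rintro ⟨r, hr⟩
        refine hRcent _ (mul_mem (inv_mem r₀.2) r.2) ?_
        have h1 : (r : G) * x * (r : G)⁻¹ = r₀ * x * (r₀ : G)⁻¹ :=
          mul_right_cancel (congrArg Subtype.val hr)
        show x * ((r₀ : G)⁻¹ * r) = (r₀ : G)⁻¹ * r * x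
        calc x * ((r₀ : G)⁻¹ * r) = (r₀ : G)⁻¹ * ((r₀ : G) * x * (r₀ : G)⁻¹) * r := by group
          _ = _ := by rw [← h1]; group
      let g : {r : R // f r = f r₀} → P ⊕ P := fun r =>
        if h1 : (r₀ : G)⁻¹ * r.1 ∈ P then Sum.inl ⟨_, h1⟩
        else Sum.inr ⟨_, (hmem r).resolve_left h1⟩
      refine Nat.card_le_card_of_injective g fun a b hab => ?_
      refine Subtype.ext (Subtype.ext ?_)
      simp only [g] at hab
      split_ifs at hab
      · exact mul_left_cancel (congrArg Subtype.val (Sum.inl.inj hab))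
      · exact mul_left_cancel (mul_left_cancel (congrArg Subtype.val (Sum.inr.inj hab)))
    have h1 := Finset.card_le_mul_card_image (Finset.univ : Finset R) (2 * 2 ^ (β * 3)) hfib
    have hRcard : 2 ^ (β + (β * 3 + 1)) ≤ Nat.card R := by
      rw [card_map_of_injective N.subtype_injective, S.card_eq_multiplicity]
      exact Nat.pow_le_pow_right (by norm_num)
        ((Nat.Prime.pow_dvd_iff_le_factorization Nat.prime_two Nat.card_pos.ne').1 hdvd)
    have himg : Finset.univ.image f = Finset.univ := by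
      refine Finset.eq_univ_of_card _ (le_antisymm (Finset.card_le_univ _) ?_)
      rw [← Nat.card_eq_fintype_card, hEc]
      rw [Finset.card_univ, ← Nat.card_eq_fintype_card, show (2 : ℕ) * 2 ^ (β * 3) = 2 ^ (β * 3 + 1) by ring]
        at h1
      rw [pow_add] at hRcard
      exact Nat.le_of_mul_le_mul_right ((hRcard.trans h1).trans (le_of_eq (mul_comm _ _)))
        (Nat.two_pow_pos _)
    intro e
    obtain ⟨r, -, hr⟩ := Finset.mem_image.1 (himg ▸ Finset.mem_univ e)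
    refine ⟨r, r.2, ?_⟩
    rw [← hr]; show _ = (r : G) * x * (r : G)⁻¹ * x * x
    rw [mul_assoc _ x x, hxx, mul_one]
  -- the transitive group
  have htrans : ∀ e ∈ E, ∀ f ∈ E, e ≠ 1 → f ≠ 1 →
      ∃ c : G, c • p = p ∧ Commute c x ∧ c * e * c⁻¹ = f ∧ ∀ g ∈ R, c * g * c⁻¹ ∈ R := by
    intro e he f hf he1 hf1
    obtain ⟨hez, hep, hxe⟩ := ((h.mem_lineGrp hl).1 he).resolve_left he1
    obtain ⟨hfz, hfp, hxf⟩ := ((h.mem_lineGrp hl).1 hf).resolve_left hf1
    obtain ⟨c₀, hcA, hce⟩ := h.crit.exists_conj_commuting (Crit.isPGroup_zpowers_invol hx.1) hq₀.symm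
      (Crit.forall_zpowers_fix hxp) (Crit.forall_zpowers_fix hxq₀) hez hfz (forall_zpowers_commute hxe)
      (forall_zpowers_commute hxf)
    have hcx : Commute x c₀ := hcA x (mem_zpowers x)
    have hcp : c₀ • p = p := h.crit.smul_eq_of_conj hfz hce hep hfp
    have hc₀N : c₀ ∈ N := hNof c₀ hcp (by rw [← hcx.eq, mul_inv_cancel_right, hxx]; exact one_mem E)
    set N0 := N ⊓ centralizer (E : Set G) with hN0
    have hRN0 : R ≤ N0 := fun g hg => ⟨hRN hg, mem_centralizer_iff.2 fun e he => (hRE g hg e he).eq.symm⟩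
    set R' := R.map (MulAut.conj c₀).toMonoidHom with hR'
    have hR'N0 : R' ≤ N0 := by
      rintro _ ⟨g, hg, rfl⟩
      refine ⟨(mul_mem (mul_mem hc₀N (hRN hg)) (inv_mem hc₀N) : c₀ * g * c₀⁻¹ ∈ N), mem_centralizer_iff.2 fun d hd' => ?_⟩
      have h1 : c₀⁻¹ * d * c₀ ∈ E := (hc₀N.2.1 _).2 (by
        rwa [show c₀ * (c₀⁻¹ * d * c₀) * c₀⁻¹ = d by group])
      have h2 := (hRE g hg _ h1).symm.conj c₀
      rw [show c₀ * (c₀⁻¹ * d * c₀) * c₀⁻¹ = d by group] at h2
      exact h2.eq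
    have hsyl : ∀ T : Subgroup G, IsPGroup 2 T → R' ≤ T → T ≤ N0 → T ≤ R' := fun T hT hle hTN g hg => by
      have h1 : T.map (MulAut.conj c₀⁻¹).toMonoidHom ≤ R := by
        refine hmax' _ (hT.map _) (fun r hr => ⟨_, hle ⟨r, hr, rfl⟩, by simp [mul_assoc]⟩) ?_
        rintro _ ⟨t, ht, rfl⟩
        exact mul_mem (mul_mem (inv_mem hc₀N) (hTN ht).1) (inv_mem (inv_mem hc₀N))
      exact ⟨c₀⁻¹ * g * c₀⁻¹⁻¹, h1 ⟨g, hg, rfl⟩, by simp [mul_assoc]⟩
    obtain ⟨S₁, hS₁⟩ : ∃ S₁ : Sylow 2 N0, (S₁ : Subgroup N0) = R.subgroupOf N0 :=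
      ⟨⟨R.subgroupOf N0, hR2.comap_subtype, fun {T} hT hle => le_antisymm (fun t ht => mem_subgroupOf.2
        (hmax' (T.map N0.subtype) (hT.map _)
          (fun r hr => ⟨⟨r, hRN0 hr⟩, hle (mem_subgroupOf.2 hr), rfl⟩)
          (fun g hg => (map_subtype_le T hg).1) ⟨t, ht, rfl⟩)) hle⟩, rfl⟩
    obtain ⟨S₂, hS₂⟩ : ∃ S₂ : Sylow 2 N0, (S₂ : Subgroup N0) = R'.subgroupOf N0 :=
      ⟨⟨R'.subgroupOf N0, (hR2.map _).comap_subtype, fun {T} hT hle => le_antisymm (fun t ht => mem_subgroupOf.2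
        (hsyl (T.map N0.subtype) (hT.map _)
          (fun r hr => ⟨⟨r, hR'N0 hr⟩, hle (mem_subgroupOf.2 hr), rfl⟩)
          (map_subtype_le T) ⟨t, ht, rfl⟩)) hle⟩, rfl⟩
    obtain ⟨n, hn⟩ := MulAction.exists_smul_eq N0 S₂ S₁
    have hnconj : ∀ g ∈ R', (n : G) * g * (n : G)⁻¹ ∈ R := by
      intro g hg
      have h1 : MulAut.conj n • (⟨g, hR'N0 hg⟩ : N0) ∈ ((n • S₂ : Sylow 2 N0) : Subgroup N0) :=
        Subgroup.smul_mem_pointwise_smul _ _ _ (hS₂ ▸ mem_subgroupOf.2 hg)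
      rw [hn, hS₁, mem_subgroupOf] at h1
      simpa [MulAut.smul_def] using h1
    obtain ⟨r, hr, hrx⟩ := hsurj ⟨(n : G) * x * (n : G)⁻¹ * x, hNx _ n.2.1⟩
    refine ⟨r⁻¹ * n * c₀, ?_, ?_, ?_, fun g hg => ?_⟩
    · rw [mul_smul, mul_smul, hcp, n.2.1.1, inv_smul_eq_iff, hRp r hr]
    · have h1 : (n : G) * x * (n : G)⁻¹ = r * x * r⁻¹ := by
        rw [hrx, mul_assoc _ x x, hxx, mul_one]
      show r⁻¹ * n * c₀ * x = x * (r⁻¹ * n * c₀)
      calc r⁻¹ * n * c₀ * x = r⁻¹ * n * (c₀ * x) := by group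
        _ = r⁻¹ * ((n : G) * x * (n : G)⁻¹) * n * c₀ := by rw [← hcx.eq]; group
        _ = _ := by rw [h1]; group
    · rw [show r⁻¹ * n * c₀ * e * (r⁻¹ * n * c₀)⁻¹ =
        r⁻¹ * ((n : G) * (c₀ * e * c₀⁻¹) * (n : G)⁻¹) * r by group, hce,
        ← mem_centralizer_iff.1 n.2.2 f hf, mul_inv_cancel_right, mul_assoc, ← (hRE r hr f hf).eq,
        inv_mul_cancel_left]
    · rw [show r⁻¹ * n * c₀ * g * (r⁻¹ * n * c₀)⁻¹ =
        r⁻¹ * ((n : G) * (c₀ * g * c₀⁻¹) * (n : G)⁻¹) * r by group]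
      exact mul_mem (mul_mem (inv_mem hr) (hnconj _ ⟨g, hg, rfl⟩)) hr
  -- the abstract data
  set E₁ := E.subgroupOf R
  set Q₁ := P.subgroupOf R
  set x₁ : R := ⟨x, hxR⟩
  let C₁ : Subgroup (MulAut R) :=
    { carrier := {σ | σ x₁ = x₁ ∧ (∀ e, e ∈ E₁ ↔ σ e ∈ E₁) ∧ ∀ v, v ∈ Q₁ ↔ σ v ∈ Q₁}
      one_mem' := ⟨rfl, fun _ => Iff.rfl, fun _ => Iff.rfl⟩
      mul_mem' := fun {a b} ha hb => ⟨by rw [MulAut.mul_apply, hb.1, ha.1],
        fun e => (hb.2.1 e).trans (ha.2.1 _), fun v => (hb.2.2 v).trans (ha.2.2 _)⟩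
      inv_mem' := fun {a} ha => ⟨by conv_lhs => rw [← ha.1]
                                    exact a.symm_apply_apply x₁,
        fun e => by rw [ha.2.1 (a⁻¹ e)]; simp,
        fun v => by rw [ha.2.2 (a⁻¹ v)]; simp⟩ }
  have hE₁ : Nat.card E₁ = 2 ^ β := by rw [Nat.card_congr (subgroupOfEquivOfLe hER).toEquiv, hEc]
  have hQ₁ : Nat.card Q₁ = Nat.card E₁ ^ 3 := by
    rw [Nat.card_congr (subgroupOfEquivOfLe hPR).toEquiv, hPc, hE₁, pow_mul]
  have hD : Shape.CosetData E₁ Q₁ x₁ C₁ :=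
    { two := hR2
      four_le := by rw [hE₁]; exact hfour
      card_le := hQ₁.le
      central := fun e he => mem_center_iff.2 fun g => Subtype.ext (hRE g g.2 e he).eq
      elem := fun e he => Subtype.ext (((h.mem_lineGrp hl).1 (mem_subgroupOf.1 he)).elim
        (fun e1 => by rw [coe_mul, e1, one_mul]; rfl) fun hh => invol_mul_self (h.crit.orderOf_conj hh.1))
      le := fun e he => mem_subgroupOf.2 (hd.line_le he)
      sq := fun v hv => mem_subgroupOf.2 (h.sq_mem_line hloc hx hxp ha hd hq₀ hxq₀ htwo hv)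
      invol := fun v hv hvv => by
        have h1 := hF.invol ⟨v, hv⟩ (Subtype.ext (congrArg Subtype.val hvv :))
        exact mem_subgroupOf.2 (mem_subgroupOf.1 h1)
      center_le := fun v hv hall => by
        obtain ⟨n, hn⟩ := IsPGroup.iff_card.1 (hd.two.to_subgroup (E.subgroupOf P))
        have hn1 : 1 ≤ n := by
          rw [hEc'] at hn; have := Nat.pow_right_injective (le_refl 2) hn; omega
        obtain ⟨K, hK⟩ := Sylow.exists_subgroup_card_pow_prime 2 (n := n - 1)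
          (hn ▸ pow_dvd_pow 2 (Nat.sub_le n 1))
        have hKi : K.index = 2 := by
          have h1 := K.card_mul_index
          rw [hK, hn] at h1
          refine Nat.eq_of_mul_eq_mul_left (Nat.two_pow_pos (n - 1)) (h1.trans ?_)
          rw [← pow_succ, Nat.sub_add_cancel hn1]
        have h2 := hF.rad_le hKi (w := (⟨v, hv⟩ : P)) fun w => by
          rw [show hF.br w ⟨v, hv⟩ = 1 from Subtype.ext (Subtype.ext (by
            show (w : G) * v * (w : G)⁻¹ * (v : G)⁻¹ = 1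
            have h3 : (v : G) * w = w * v :=
              congrArg Subtype.val (hall ⟨w, hPR w.2⟩ (mem_subgroupOf.2 w.2)).eq
            rw [← h3]; group))]
          exact one_mem K
        exact mem_subgroupOf.2 (mem_subgroupOf.1 h2)
      x_sq := Subtype.ext hxx
      x_notMem := fun hh => hxP (mem_subgroupOf.1 hh)
      x_comm := fun v hv => Subtype.ext (hd.commute hv).eq
      cent := fun g hg => by
        have hgx : Commute x (g : G) := (congrArg Subtype.val hg.eq.symm :)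
        rcases hRcent g g.2 hgx with h1 | h1
        · exact ⟨g, mem_subgroupOf.2 h1, Or.inl rfl⟩
        · refine ⟨x₁ * g, mem_subgroupOf.2 h1, Or.inr (Subtype.ext ?_)⟩
          show (g : G) = x * g * x
          rw [mul_assoc, ← hgx.eq, ← mul_assoc, hxx, one_mul]
      translate := fun g => mem_subgroupOf.2 (hNx g (hRN g.2))
      surj := fun e he => by
        obtain ⟨r, hr, hrx⟩ := hsurj ⟨e, he⟩
        exact ⟨⟨r, hr⟩, Subtype.ext hrx⟩
      fix_x := fun c hc => hc.1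
      stab_E := fun c hc e he => (hc.2.1 e).1 he
      stab_Q := fun c hc v hv => (hc.2.2 v).1 hv
      trans := fun e he f hf he1 hf1 => by
        obtain ⟨c, hcp, hcx, hce, hcR⟩ := htrans e he f hf (fun e1 => he1 (Subtype.ext e1))
          fun e1 => hf1 (Subtype.ext e1)
        let κ : R → R := fun g => ⟨c * g * c⁻¹, hcR g g.2⟩
        have hκ : Function.Bijective κ := by
          refine (Function.Injective.bijective_of_finite ?_)
          exact fun a b hab => Subtype.ext (mul_left_cancel (mul_right_cancel (congrArg Subtype.val hab)))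
        let σ : MulAut R := MulEquiv.ofBijective
          ({ toFun := κ
             map_one' := Subtype.ext (by simp [κ])
             map_mul' := fun a b => Subtype.ext (show c * ((a : G) * b) * c⁻¹ = c * a * c⁻¹ * (c * b * c⁻¹) by group) } :
            R →* R) hκ
        have hcN : c ∈ N := hNof c hcp (by rw [hcx.eq, mul_inv_cancel_right, hxx]; exact one_mem E)
        refine ⟨σ, ⟨Subtype.ext (show c * x * c⁻¹ = x by rw [hcx.eq, mul_inv_cancel_right]),
          fun e => hcN.2.1 (e : G), fun v => ?_⟩, Subtype.ext hce⟩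
        refine ⟨fun hv => mem_subgroupOf.2 (hd.conj hcx.symm hcp hv), fun hv => mem_subgroupOf.2 ?_⟩
        have h1 := hd.conj hcx.symm.inv_right (inv_smul_eq_iff.2 hcp.symm) (mem_subgroupOf.1 hv)
        rwa [show c⁻¹ * ((σ v : R) : G) * c⁻¹⁻¹ = (v : G) by
          show c⁻¹ * (c * (v : G) * c⁻¹) * c⁻¹⁻¹ = v
          group] at h1 }
  refine ⟨R, hR2, hRp, hxR, hER, hRE, fun g hg => ?_, ?_, fun T hT hRT hTx => ?_, htrans⟩
  · exact mem_subgroupOf.1 (hD.sq_mem ⟨g, hg⟩)
  · rw [← hE₁]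
    exact hD.card_sq_one hD.sq_mem hQ₁
  · exact hmax' T hT hRT fun g hg => hNof g (hTx g hg).1 (hTx g hg).2

end CfsgLib.SECrit
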