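import Cfsg.Agent.Lib.Invol.SECriterion.Cube.Disjoint
import Cfsg.Agent.Lib.Invol.SECriterion.Cube.Regular
import Cfsg.Agent.Lib.Invol.SECriterion.SmallType.Line

/-!
# The strong embedding criterion: the count in the stabilizer of a coset

The involutions of the two-group `R` of the coset `x E` are `E`, members off `E` and bad ones.  The bad
cosets other than `x E` fall into classes of the same size along the translations, so there is none or at
least `q - 1`; in the first case `R` is Sylow, in the second there are too few involutions.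
-/

set_option autoImplicit false
set_option linter.unusedSectionVars false
set_option linter.style.haveILetI false

namespace CfsgLib.SECrit

open CfsgLib.Invol Subgroup

universe u

theorem Cube.count_arith {q a i j : ℕ} (hq : 4 ≤ q) (haq : a + 1 = q) (hiq : q ≤ i) (hj : 1 ≤ j)
    (h : (q * j + 1) * (q * i - 1) + (q ^ 3 + 1) = (q ^ 3 + 1) * q) : 1 + j * a + i < q ^ 2 + q := by
  have h1 : 1 ≤ q * i := Nat.mul_pos (by omega) (by omega)
  zify [h1] at h
  have key : (q : ℤ) * i * j + i - j = (q : ℤ) ^ 3 - (q : ℤ) ^ 2 + 1 := by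
    have e : (q : ℤ) * ((q : ℤ) * i * j + i - j) = q * ((q : ℤ) ^ 3 - (q : ℤ) ^ 2 + 1) := by linear_combination h
    exact mul_left_cancel₀ (by exact_mod_cast (show q ≠ 0 by omega)) e
  have hij : i * j < q ^ 2 := by
    by_contra hcon
    push Not at hcon
    have hcon' : (q : ℤ) ^ 2 ≤ i * j := by exact_mod_cast hcon
    have hiq' : (q : ℤ) ≤ i := by exact_mod_cast hiq
    have hq' : (4 : ℤ) ≤ q := by exact_mod_cast hq
    have hj' : (1 : ℤ) ≤ j := by exact_mod_cast hj
    have h2 : (q : ℤ) * q * j ≤ q * i * j := by nlinarith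
    have h3 : (q : ℤ) ^ 2 ≤ j := by nlinarith
    have h4 : (j : ℤ) * ((q : ℤ) ^ 2 - 1) ≤ (q : ℤ) ^ 3 - (q : ℤ) ^ 2 + 1 - q := by nlinarith
    nlinarith
  have h5 : j * a + i ≤ i * j + a := by
    obtain ⟨d, rfl⟩ := Nat.exists_eq_add_of_le (show a ≤ i by omega)
    obtain ⟨l, rfl⟩ := Nat.exists_eq_add_of_le hj
    nlinarith [Nat.zero_le (d * l)]
  omega

variable {G : Type u} [Group G] [Finite G] {M : Subgroup G} {z : G}

/-- The line is normalized by what centralizes `x` at the point. -/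
theorem Setup.conj_mem_lineGrp (h : Setup M z) {x : G} (hl : Local M z x) {p : G ⧸ M} {c e : G}
    (hcp : c • p = p) (hcx : Commute c x) (he : e ∈ lineGrp z x p) : c * e * c⁻¹ ∈ lineGrp z x p := by
  rw [h.mem_lineGrp hl] at he ⊢
  rcases he with rfl | ⟨he, hep, hxe⟩
  · exact Or.inl (by group)
  · exact Or.inr ⟨he.trans (isConj_iff.2 ⟨c, rfl⟩),
      by rw [mul_smul, mul_smul, inv_smul_eq_iff.2 hcp.symm, hep, hcp],
      (hcx.symm.mul_right hxe).mul_right hcx.symm.inv_right⟩

/-- **The exit**: a Sylow group of the point with squares in the line and one bad coset. -/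
theorem Setup.cube_false_of_sylow (h : Setup M z) (hgen : normalClosure ({z} : Set G) = ⊤) {x : G}
    (hl : Local M z x) (hx : IsBad M x) {p : G ⧸ M}
    (ha : 2 ≤ Nat.card (CAt z ({x} : Set G) p)) (S : Sylow 2 (MulAction.stabilizer G p))
    (hxS : ∃ y ∈ (S : Subgroup (MulAction.stabilizer G p)), (y : G) = x)
    (hsq : ∀ g ∈ (S : Subgroup (MulAction.stabilizer G p)), ((g * g : MulAction.stabilizer G p) : G) ∈ lineGrp z x p)
    (hcen : ∀ e : MulAction.stabilizer G p, (e : G) ∈ lineGrp z x p →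
      ∀ g ∈ (S : Subgroup (MulAction.stabilizer G p)), Commute e g)
    (hES : ∀ e ∈ lineGrp z x p, ∃ y ∈ (S : Subgroup (MulAction.stabilizer G p)), (y : G) = e)
    (hbad : ∀ g ∈ (S : Subgroup (MulAction.stabilizer G p)), IsBad M (g : G) → x * g ∈ lineGrp z x p) : False := by
  classical
  obtain ⟨x', hx', hxe⟩ := hxS
  set E' := (lineGrp z x p).comap (MulAction.stabilizer G p).subtype with hE'
  have hxE : x ∉ lineGrp z x p := by
    intro hh
    rcases (h.mem_lineGrp hl).1 hh with e | ⟨hc, -, -⟩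
    · exact invol_ne_one hx.1 e
    · obtain ⟨-, r, s, hrs, hr, hs⟩ := hx
      exact hrs (h.crit.fix_unique hc hr hs)
  let ok : Subgroup (MulAction.stabilizer G p) → Prop := fun U => E' ≤ U ∧ U ≤ (S : Subgroup _) ∧ x' ∉ U
  have hEleS : E' ≤ (S : Subgroup (MulAction.stabilizer G p)) := fun e he => by
    obtain ⟨y, hy, hye⟩ := hES e he
    rwa [show e = y from Subtype.ext hye.symm]
  have h0 : ok E' := ⟨le_rfl, hEleS, fun hh => hxE (by have hh' : (x' : G) ∈ lineGrp z x p := hh; rwa [hxe] at hh')⟩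
  letI : Fintype (Subgroup (MulAction.stabilizer G p)) := Fintype.ofFinite _
  obtain ⟨U, hUm, hmax⟩ := Finset.exists_max_image (Finset.univ.filter ok) (fun U => Nat.card U)
    ⟨E', Finset.mem_filter.2 ⟨Finset.mem_univ _, h0⟩⟩
  simp only [Finset.mem_filter, Finset.mem_univ, true_and] at hUm hmax
  obtain ⟨hEU, hUS, hxU⟩ := hUm
  have hcomm : ∀ g ∈ (S : Subgroup _), ∀ u ∈ (S : Subgroup _), g * u * g⁻¹ * u⁻¹ ∈ U := by
    intro g hg u hu
    refine hEU ?_
    rw [show g * u * g⁻¹ * u⁻¹ = (g * u * (g * u)) * (u⁻¹ * (g * g)⁻¹ * u⁻¹) by group]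
    refine mul_mem (hsq _ (mul_mem hg hu)) ?_
    have hg2 : g * g ∈ E' := hsq g hg
    rw [← ((hcen (g * g) hg2 u hu).inv_left.inv_right).eq, mul_assoc, ← mul_inv_rev u u]
    exact mul_mem (inv_mem hg2) (inv_mem (hsq u hu))
  have h2 : U.relIndex (S : Subgroup _) = 2 := by
    refine relIndex_eq_two_iff.2 ⟨x', hx', fun g hg => ?_⟩
    by_cases hgU : g ∈ U
    · exact Or.inr ⟨hgU, fun hh => hxU (by simpa using mul_mem (inv_mem hgU) hh)⟩
    refine Or.inl ⟨?_, hgU⟩
    -- `U` and `g` give a larger subgroup, which holds `x`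
    let V : Subgroup (MulAction.stabilizer G p) :=
      { carrier := {t | t ∈ U ∨ t * g ∈ U}
        one_mem' := Or.inl U.one_mem
        mul_mem' := by
          rintro a b (haU | haU) (hb | hb)
          · exact Or.inl (mul_mem haU hb)
          · exact Or.inr (by rw [mul_assoc]; exact mul_mem haU hb)
          · refine Or.inr ?_
            rw [show a * b * g = a * g * (g⁻¹ * b * g * b⁻¹) * b by group]
            exact mul_mem (mul_mem haU (by simpa using hcomm g⁻¹ (inv_mem hg) b (hUS hb))) hb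
          · refine Or.inl ?_
            rw [show a * b = a * g * (g⁻¹ * (b * g) * g * (b * g)⁻¹) * (b * g) * (g * g)⁻¹ by group]
            exact mul_mem (mul_mem (mul_mem haU (by simpa using hcomm g⁻¹ (inv_mem hg) _ (hUS hb))) hb)
              (inv_mem (hEU (hsq g hg)))
        inv_mem' := by
          rintro a (haU | haU)
          · exact Or.inl (inv_mem haU)
          · refine Or.inr ?_
            rw [show a⁻¹ * g = (g * (a * g)⁻¹ * g⁻¹ * (a * g)) * (a * g)⁻¹ * (g * g) by group]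
            refine mul_mem (mul_mem ?_ (inv_mem haU)) (hEU (hsq g hg))
            simpa using hcomm g hg _ (inv_mem (hUS haU)) }
    have hUV : U ≤ V := fun t ht => Or.inl ht
    have hgV : g ∈ V := Or.inr (hEU (hsq g hg))
    have hVS : V ≤ (S : Subgroup _) := by
      rintro t (ht | ht)
      · exact hUS ht
      · simpa using mul_mem (hUS ht) (inv_mem hg)
    have hxV : x' ∈ V := by
      by_contra hxV
      exact hgU ((Subgroup.eq_of_le_of_card_ge hUV (hmax V ⟨le_trans hEU hUV, hVS, hxV⟩)).symm ▸ hgV)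
    rcases hxV with hh | hh
    · exact absurd hh hxU
    · have hx2 : x' * x' ∈ U := hEU (hsq x' hx')
      have h3 := hcomm x' hx' g hg
      rw [show g * x' = (x' * g * x'⁻¹ * g⁻¹)⁻¹ * (x' * g) by group]
      exact mul_mem (inv_mem h3) hh
  obtain ⟨⟨d, hd, hdp, hxd⟩, ⟨v, hv, hvp, hxv⟩, hne⟩ :=
    (Finite.one_lt_card_iff_nontrivial.1
      (show 1 < Nat.card (CAt z ({x} : Set G) p) by omega)).exists_pair_ne
  have hdv : Commute d v := hl.comm_at d v p hd hv (hxd x rfl) (hxv x rfl) hdp hvp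
  have hdv' := h.isConj_mul hd hv hdv fun e => hne (Subtype.ext e)
  have hcd : Crit (MulAction.stabilizer G p) d := h.crit.at_point hd hdp
  have hnot := hcd.not_mem_of_relIndex hx.1 (IsConj.refl d) (hd.symm.trans hv) hdp hvp (hd.symm.trans hdv')
    S U hUS h2 ?_
  · refine hnot ?_
    have hdn : IsConj z d := hd
    have : normalClosure ({z} : Set G) ≤ normalClosure ({d} : Set G) := by
      refine normalClosure_le_normal (Set.singleton_subset_iff.2 ?_)
      obtain ⟨g, hg⟩ := isConj_iff.1 hdn.symm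
      rw [← hg]
      exact normalClosure_normal.conj_mem d (subset_normalClosure (Set.mem_singleton d)) g
    exact this (hgen.symm ▸ mem_top x)
  intro y hyU hxy
  refine hxU ?_
  have hyb : IsBad M (y : G) := by
    obtain ⟨g, hg⟩ := isConj_iff.1 hxy
    obtain ⟨hxo, r, s, hrs, hr, hs⟩ := hx
    rw [← hg]
    exact ⟨invol_conj hxo g, g • r, g • s, fun e => hrs (smul_left_cancel _ e),
      by rw [mul_smul, mul_smul, inv_smul_smul, hr], by rw [mul_smul, mul_smul, inv_smul_smul, hs]⟩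
  have h3 : x' * y ∈ U := hEU (show ((x' * y : MulAction.stabilizer G p) : G) ∈ lineGrp z x p by
    rw [Subgroup.coe_mul, hxe]; exact hbad y (hUS hyU) hyb)
  simpa using mul_mem h3 (inv_mem hyU)

/-- **The count in the stabilizer of a coset.** -/
theorem Setup.cube_false_of_coset (h : Setup M z) (hgen : normalClosure ({z} : Set G) = ⊤)
    (hloc : ∀ x : G, IsBad M x → Local M z x) {x : G} (hx : IsBad M x) {p : G ⧸ M} (hxp : x • p = p)
    (ha : 2 ≤ Nat.card (CAt z ({x} : Set G) p)) (hlt : Nat.card (CAt z ({x} : Set G) p) < deg M z)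
    {β : ℕ} (hβ : Nat.card (CAt z ({x} : Set G) p) + 1 = 2 ^ β) (hβ2 : 2 ≤ β)
    (hk : Nat.card {c : G ⧸ M // x • c = c} = 2 ^ (β * 3) + 1)
    {q₀ : G ⧸ M} (hq₀ : q₀ ≠ p) (hxq₀ : x • q₀ = q₀) {P : Subgroup G} (hP : IsPGroup 2 P)
    (hPx : P ≤ twoPt x p q₀)
    (hmax : ∀ (T : Subgroup G) (c : G ⧸ M), IsPGroup 2 T → c ≠ p → (∀ g ∈ T, g • p = p ∧ g • c = c) →
      Nat.card T ≤ Nat.card P)
    {R : Subgroup G} (hR : IsPGroup 2 R) (hRp : ∀ g ∈ R, g • p = p) (hxR : x ∈ R)
    (hER : lineGrp z x p ≤ R) (hRE : ∀ g ∈ R, ∀ e ∈ lineGrp z x p, Commute g e)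
    (hsq : ∀ g ∈ R, g * g ∈ lineGrp z x p)
    (hcnt : 2 ^ β * ((2 ^ β) ^ 2 + 2 ^ β) ≤ Nat.card {u : R // u * u = 1})
    (hRmax : ∀ T : Subgroup G, IsPGroup 2 T → R ≤ T →
      (∀ g ∈ T, g • p = p ∧ g * x * g⁻¹ * x ∈ lineGrp z x p) → T ≤ R)
    (htrans : ∀ e ∈ lineGrp z x p, ∀ f ∈ lineGrp z x p, e ≠ 1 → f ≠ 1 →
      ∃ c : G, c • p = p ∧ Commute c x ∧ c * e * c⁻¹ = f ∧ ∀ g ∈ R, c * g * c⁻¹ ∈ R) : False := by
  classical
  letI : Fintype G := Fintype.ofFinite G
  set E := lineGrp z x p with hE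
  set q := 2 ^ β with hq
  set a := Nat.card (CAt z ({x} : Set G) p) with hadef
  have hl := hloc x hx
  have hq4 : 4 ≤ q := le_trans (by norm_num) (Nat.pow_le_pow_right (n := 2) (by norm_num) hβ2)
  have hEq : Nat.card E = q := by rw [hE, h.card_lineGrp hl, hβ]
  have hmem := @Setup.mem_lineGrp G _ M z _ h x hl p
  have hRE' : ∀ g ∈ R, ∀ d : G, IsConj z d → d • p = p → Commute x d → Commute g d :=
    fun g hg d hd hdp hxd => hRE g hg d (hmem.2 (Or.inr ⟨hd, hdp, hxd⟩))
  have hE1 : ∀ e ∈ E, e * e = 1 := fun e he => (hmem.1 he).elim (fun e1 => by rw [e1, one_mul])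
    fun he => invol_mul_self (h.crit.orderOf_conj he.1)
  have hEx : ∀ e ∈ E, Commute x e := fun e he => (hmem.1 he).elim (fun e1 => e1 ▸ Commute.one_right x)
    fun he => he.2.2
  -- members and bad involutions
  have hnotboth : ∀ u : G, IsConj z u → ¬ IsBad M u := fun u hu hb => by
    obtain ⟨-, r, s, hrs, hr, hs⟩ := hb
    exact hrs (h.crit.fix_unique hu hr hs)
  have hclass : ∀ u : G, u * u = 1 → u ≠ 1 → IsConj z u ∨ IsBad M u := fun u h2 h1 => by
    have huo : orderOf u = 2 := invol_iff.2 ⟨h2, h1⟩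
    by_cases hb : IsBad M u
    · exact Or.inr hb
    · refine Or.inl (h.crit.isConj_of_unique_fix h.hfree huo fun r s hr hs => ?_)
      by_contra hne
      exact hb ⟨huo, r, s, hne, hr, hs⟩
  -- translations of bad involutions
  let w : G → G := fun u => x * u * (x * u)
  have hwE : ∀ u ∈ R, w u ∈ E := fun u hu => hsq _ (mul_mem hxR hu)
  have hwne : ∀ u ∈ R, IsBad M u → x * u ∉ E → w u ≠ 1 := by
    intro u huR hu hnx hw
    have hux : Commute x u := by
      have e1 : x * u = u⁻¹ * x⁻¹ := by rw [← mul_inv_rev]; exact eq_inv_of_mul_eq_one_left hw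
      rwa [invol_inv hu.1, invol_inv hx.1] at e1
    have e1 : ∀ y : G, Nat.card (MemComm z y p) = Nat.card (CAt z ({y} : Set G) p) := fun y =>
      Nat.card_congr (Equiv.subtypeEquivRight fun d =>
        ⟨fun hd => ⟨hd.1, hd.2.1, fun t ht => by rw [Set.mem_singleton_iff.1 ht]; exact hd.2.2.symm⟩,
          fun hd => ⟨hd.1, hd.2.1, (hd.2.2 y rfl).symm⟩⟩)
    have hc' : ∀ y : G, IsBad M y → y • p = p → Nat.card (MemComm z y p) ≤ Nat.card (MemComm z x p) := by
      intro y hy hyp
      rw [e1, e1]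
      by_contra hgt
      push Not at hgt
      exact hgt.ne' (h.cube_uniform hgen hloc hx hxp ha hlt hβ hβ2 hk hq₀ hxq₀ hP hPx hmax hy hyp hgt.le).1
    have hex : ∃ v : G, IsConj z v ∧ v • p = p ∧ ¬ Commute v x := by
      by_contra hno
      push Not at hno
      refine hlt.not_ge ?_
      rw [← card_DAt (z := z) p]
      exact Nat.card_le_card_of_injective
        (fun d : DAt z p => (⟨d.1, d.2.1, d.2.2, fun t ht => by
          rw [Set.mem_singleton_iff.1 ht]; exact (hno d.1 d.2.1 d.2.2).symm⟩ : CAt z ({x} : Set G) p))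
        fun d d' e => Subtype.ext (congrArg (fun t : CAt z ({x} : Set G) p => t.1) e)
    have hline : ∀ v : G, IsConj z v → v • p = p → Commute v x → Commute v u :=
      fun v hv hvp hvx => (hRE' u huR v hv hvp hvx.symm).symm
    apply hnx
    rcases h.eq_or_exists_of_line hloc hx hxp hu (hRp u huR) hux hline hc' hex with e | ⟨v, hv, hvp, hvx, e⟩
    · rw [e, invol_mul_self hx.1]; exact one_mem _
    · rw [e, ← mul_assoc, invol_mul_self hx.1, one_mul]
      exact hmem.2 (Or.inr ⟨hv, hvp, hvx.symm⟩)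
  let B : Set G := {u | u ∈ R ∧ IsBad M u}
  let B' : Set G := {u | u ∈ R ∧ IsBad M u ∧ x * u ∉ E}
  let F : G → Set G := fun e => {u | u ∈ R ∧ IsBad M u ∧ x * u ∉ E ∧ w u = e}
  have hbadmul : ∀ u ∈ R, IsBad M u → ∀ e ∈ E, IsBad M (u * e) := by
    intro u huR hu e he
    rcases hmem.1 he with rfl | he'
    · rwa [mul_one]
    have hue : Commute u e := hRE u huR e he
    rcases hclass (u * e) (by rw [hue.symm.mul_mul_mul_comm, invol_mul_self hu.1, hE1 e he, one_mul])
      (fun e1 => hnotboth u (by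
        rw [eq_inv_of_mul_eq_one_left e1, invol_inv (h.crit.orderOf_conj he'.1)]; exact he'.1) hu) with hc | hb
    · -- `u = (u e) e` would be a member
      exfalso
      refine hnotboth u ?_ hu
      have := h.isConj_mul hc he'.1 (hue.mul_left (Commute.refl e)) (fun e1 => invol_ne_one hu.1 (by
        simpa using e1))
      rwa [mul_assoc, hE1 e he, mul_one] at this
    · exact hb
  have hF : ∀ e ∈ E, q ∣ (F e).ncard := by
    intro e he
    have hsat : QuotientGroup.mk ⁻¹' (QuotientGroup.mk '' F e : Set (G ⧸ E)) = F e := by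
      refine Set.Subset.antisymm ?_ (Set.subset_preimage_image _ _)
      rintro v ⟨u, ⟨huR, hu, hnx, hwu⟩, huv⟩
      obtain ⟨d, hd, rfl⟩ : ∃ d ∈ E, v = u * d :=
        ⟨u⁻¹ * v, QuotientGroup.eq.1 huv, (mul_inv_cancel_left _ _).symm⟩
      refine ⟨mul_mem huR (hER hd), hbadmul u huR hu d hd, fun hh => hnx ?_, ?_⟩
      · have := mul_mem hh (inv_mem hd)
        rwa [← mul_assoc, mul_inv_cancel_right] at this
      · show x * (u * d) * (x * (u * d)) = e
        have hc : Commute (x * u) d := hRE _ (mul_mem hxR huR) d hd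
        rw [show x * (u * d) = x * u * d from (mul_assoc _ _ _).symm, hc.symm.mul_mul_mul_comm, hE1 d hd, mul_one]
        exact hwu
    refine ⟨Nat.card (QuotientGroup.mk '' F e : Set (G ⧸ E)), ?_⟩
    rw [← Nat.card_coe_set_eq]
    conv_lhs => rw [← hsat]
    rw [Nat.card_congr (QuotientGroup.preimageMkEquivSubgroupProdSet E _), Nat.card_prod, hEq]
  have hFeq : ∀ e ∈ E, ∀ f ∈ E, e ≠ 1 → f ≠ 1 → (F e).ncard ≤ (F f).ncard := by
    intro e he f hf he1 hf1
    obtain ⟨c, hcp, hcx, hcef, hcR⟩ := htrans e he f hf he1 hf1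
    refine Set.ncard_le_ncard_of_injOn (fun u => c * u * c⁻¹) ?_ (fun u _ v _ huv => by simpa using huv)
      (Set.toFinite _)
    rintro u ⟨huR, hu, hnx, hwu⟩
    have hcxu : x * (c * u * c⁻¹) = c * (x * u) * c⁻¹ := by
      rw [show x * (c * u * c⁻¹) = x * c * u * c⁻¹ by group, ← hcx.eq]; group
    refine ⟨hcR u huR, ⟨invol_conj hu.1 c, ?_⟩, fun hh => hnx ?_, ?_⟩
    · obtain ⟨r, s, hrs, hr, hs⟩ := hu.2
      exact ⟨c • r, c • s, fun e => hrs (smul_left_cancel _ e),
        by rw [mul_smul, mul_smul, inv_smul_smul, hr], by rw [mul_smul, mul_smul, inv_smul_smul, hs]⟩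
    · rw [hcxu] at hh
      have := h.conj_mem_lineGrp hl (c := c⁻¹) (inv_smul_eq_iff.2 hcp.symm) hcx.inv_left hh
      simpa [mul_assoc] using this
    · show x * (c * u * c⁻¹) * (x * (c * u * c⁻¹)) = f
      rw [hcxu, ← hcef, ← hwu]
      show c * (x * u) * c⁻¹ * (c * (x * u) * c⁻¹) = c * (x * u * (x * u)) * c⁻¹
      group
  -- the number of bad involutions
  obtain ⟨t, hB⟩ : ∃ t, B.ncard = q * (1 + a * t) ∧ (t = 0 → B' = ∅) := by
    obtain ⟨⟨e₀, he₀, he₀p, hxe₀⟩⟩ : Nonempty (CAt z ({x} : Set G) p) := Finite.card_pos_iff.1 (by omega)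
    have he₀E : e₀ ∈ E := hmem.2 (Or.inr ⟨he₀, he₀p, hxe₀ x rfl⟩)
    have he₀1 : e₀ ≠ 1 := invol_ne_one (h.crit.orderOf_conj he₀)
    obtain ⟨t, ht⟩ := hF e₀ he₀E
    have hsum : B'.ncard = a * (F e₀).ncard := by
      rw [Set.ncard_eq_toFinset_card', Finset.card_eq_sum_card_fiberwise (f := w)
        (t := ((E : Set G) \ {1}).toFinset) (fun u hu => ?_)]
      · rw [Finset.sum_congr rfl fun e he => ?_, Finset.sum_const, smul_eq_mul,
          ← Set.ncard_eq_toFinset_card', Set.ncard_sdiff_singleton_of_mem (one_mem E),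
          ← Nat.card_coe_set_eq, show Nat.card ↑(E : Set G) = a + 1 by rw [← hβ] at hEq; exact hEq,
          Nat.add_sub_cancel]
        rw [Set.mem_toFinset] at he
        rw [← Set.ncard_coe_finset]
        have e1 : ↑(Finset.filter (fun u => w u = e) B'.toFinset) = F e := by
          ext u; simp [B', F, and_assoc]
        rw [e1]
        exact le_antisymm (hFeq e he.1 e₀ he₀E he.2 he₀1) (hFeq e₀ he₀E e he.1 he₀1 he.2)
      · rw [Finset.mem_coe, Set.mem_toFinset] at hu
        simp only [Set.coe_toFinset]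
        exact ⟨hwE u hu.1, hwne u hu.1 hu.2.1 hu.2.2⟩
    have hx0 : {u : G | x * u ∈ E}.ncard = q := by
      rw [← hEq, ← Nat.card_coe_set_eq]
      exact Nat.card_congr (Equiv.subtypeEquiv (Equiv.mulLeft x) fun u => Iff.rfl)
    refine ⟨t, ?_, fun ht0 => ?_⟩
    · have e1 : B = {u : G | x * u ∈ E} ∪ B' := by
        ext u
        refine ⟨fun hu => (em (x * u ∈ E)).imp id fun hn => ⟨hu.1, hu.2, hn⟩, ?_⟩
        rintro (hu | hu)
        · have e2 : u = x * (x * u) := by rw [← mul_assoc, invol_mul_self hx.1, one_mul]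
          rw [e2]
          exact ⟨mul_mem hxR (hER hu), hbadmul x hxR hx _ hu⟩
        · exact ⟨hu.1, hu.2.1⟩
      rw [e1, Set.ncard_union_eq ?_ (Set.toFinite _) (Set.toFinite _), hx0, hsum, ht]
      · ring
      · exact Set.disjoint_left.2 fun u hu hu' => hu'.2.2 hu
    · rw [← Set.ncard_eq_zero (Set.toFinite _), hsum, ht, ht0, mul_zero, mul_zero]
  obtain ⟨i, j, hi, hj, hm, hN, harith⟩ :=
    h.exists_arith hloc hx hxp ha hq₀ hxq₀ hP hPx hmax hβ hk (by omega) hlt
  rw [show (2 : ℕ) ^ (β * 3) = q ^ 3 from pow_mul 2 β 3] at harith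
  -- the bounds
  have hBi : B.ncard ≤ q * i := by
    have h1 := h.cube_count hgen hloc hx hxp ha hlt hβ hβ2 hk hq₀ hxq₀ hP hPx hmax hR hRp hRE'
    have e1 : Nat.card {u : R // IsBad M (u : G)} = B.ncard := by
      rw [← Nat.card_coe_set_eq]
      exact Nat.card_congr ⟨fun u => ⟨u.1.1, u.1.2, u.2⟩, fun u => ⟨⟨u.1, u.2.1⟩, u.2.2⟩, fun _ => rfl, fun _ => rfl⟩
    rw [e1, hN, pow_add, mul_right_comm, ← hq] at h1
    exact Nat.le_of_mul_le_mul_right h1 (Nat.two_pow_pos _)
  by_cases ht0 : t = 0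
  · -- `x E` is the only bad coset: `R` is Sylow
    have hBx : ∀ u ∈ R, IsBad M u → x * u ∈ E := fun u huR hu => by
      by_contra hn
      have : u ∈ B' := ⟨huR, hu, hn⟩
      rw [hB.2 ht0] at this
      exact this
    haveI : Fact (Nat.Prime 2) := ⟨Nat.prime_two⟩
    set St := MulAction.stabilizer G p with hSt
    obtain ⟨S, hRS⟩ := (hR.comap_subtype (K := St)).exists_le_sylow
    set SG : Subgroup G := (S : Subgroup St).map St.subtype with hSG
    have hRSG : R ≤ SG := fun g hg => ⟨⟨g, hRp g hg⟩, hRS (show (⟨g, hRp g hg⟩ : St) ∈ R.comap St.subtype from hg), rfl⟩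
    have hSGp : ∀ g ∈ SG, g • p = p := by rintro g ⟨g, -, rfl⟩; exact g.2
    have hSG2 : IsPGroup 2 SG := S.2.map St.subtype
    have hle : SG ≤ R := by
      let T : Subgroup G := SG ⊓ normalizer (R : Set G)
      have hT : T ≤ R := hRmax T (hSG2.to_le inf_le_left) (le_inf hRSG le_normalizer) fun g hg => by
        refine ⟨hSGp g hg.1, ?_⟩
        have hgx : g * x * g⁻¹ ∈ R := (mem_normalizer_iff.1 hg.2 x).1 hxR
        have hb : IsBad M (g * x * g⁻¹) := by
          obtain ⟨hxo, r, s, hrs, hr, hs⟩ := hx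
          exact ⟨invol_conj hxo g, g • r, g • s, fun e => hrs (smul_left_cancel _ e),
            by rw [mul_smul, mul_smul, inv_smul_smul, hr], by rw [mul_smul, mul_smul, inv_smul_smul, hs]⟩
        have he := hBx _ hgx hb
        have e2 : g * x * g⁻¹ * x = x * (x * (g * x * g⁻¹)) * x := by
          rw [← mul_assoc x x, invol_mul_self hx.1, one_mul]
        rw [e2, (hEx _ he).eq, mul_assoc, invol_mul_self hx.1, mul_one]
        exact he
      haveI : Finite SG := inferInstance
      haveI : Group.IsNilpotent SG := hSG2.isNilpotent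
      by_contra hnle
      have hne : R.subgroupOf SG ≠ ⊤ := fun e => hnle (subgroupOf_eq_top.1 e)
      have hlt' := Group.normalizerCondition_of_isNilpotent (R.subgroupOf SG) (lt_top_iff_ne_top.2 hne)
      obtain ⟨g, hg, hgR⟩ := SetLike.exists_of_lt hlt'
      refine hgR (hT ⟨g.2, ?_⟩)
      show (g : G) ∈ normalizer (R : Set G)
      rw [mem_normalizer_iff]
      intro u
      constructor
      · intro hu
        exact (mem_normalizer_iff.1 hg ⟨u, hRSG hu⟩).1 hu
      · intro hu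
        have hu' : u ∈ SG := by
          have := mul_mem (mul_mem (inv_mem g.2) (hRSG hu)) g.2
          simpa [mul_assoc] using this
        exact (mem_normalizer_iff.1 hg ⟨u, hu'⟩).2 hu
    have hin : ∀ g ∈ (S : Subgroup St), (g : G) ∈ R := fun g hg => hle ⟨g, hg, rfl⟩
    have hout : ∀ g ∈ R, ∃ y ∈ (S : Subgroup St), (y : G) = g := fun g hg =>
      ⟨⟨g, hRp g hg⟩, hRS (show (⟨g, hRp g hg⟩ : St) ∈ R.comap St.subtype from hg), rfl⟩
    exact h.cube_false_of_sylow hgen hl hx ha S (hout x hxR) (fun g hg => hsq _ (hin g hg))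
      (fun e he g hg => Subtype.ext (hRE _ (hin g hg) _ he).symm.eq)
      (fun e he => hout e (hER he)) fun g hg => hBx _ (hin g hg)
  -- too few involutions
  have hiq : q ≤ i := by
    have h2 : q * (1 + a * t) ≤ q * i := hB.1 ▸ hBi
    have h3 := Nat.le_of_mul_le_mul_left h2 (by omega)
    have h4 : a ≤ a * t := Nat.le_mul_of_pos_right _ (Nat.pos_of_ne_zero ht0)
    omega
  have hA := h.cube_members hgen hloc hx hxp ha hlt hβ hβ2 hk hq₀ hxq₀ hP hPx hmax hRp hRE'
  set A := {u : G | u ∈ R ∧ IsConj z u ∧ ¬ Commute x u} with hAdef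
  have e1 : Nat.card {u : R // IsConj z (u : G) ∧ ¬ Commute x (u : G)} = A.ncard := by
    rw [← Nat.card_coe_set_eq]
    exact Nat.card_congr ⟨fun u => ⟨u.1.1, u.1.2, u.2⟩, fun u => ⟨⟨u.1, u.2.1⟩, u.2.2⟩, fun _ => rfl, fun _ => rfl⟩
  have hinvol : Nat.card {u : R // u * u = 1} ≤ q + A.ncard + B.ncard := by
    have e2 : Nat.card {u : R // u * u = 1} = {u : G | u ∈ R ∧ u * u = 1}.ncard := by
      rw [← Nat.card_coe_set_eq]
      exact Nat.card_congr ⟨fun u => ⟨u.1.1, u.1.2, congrArg Subtype.val u.2⟩,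
        fun u => ⟨⟨u.1, u.2.1⟩, Subtype.ext u.2.2⟩, fun _ => rfl, fun _ => rfl⟩
    rw [e2, ← hEq, show Nat.card E = (E : Set G).ncard from (Nat.card_coe_set_eq _)]
    refine le_trans (Set.ncard_le_ncard (t := (E : Set G) ∪ A ∪ B) ?_ (Set.toFinite _))
      (le_trans (Set.ncard_union_le _ _) (Nat.add_le_add_right (Set.ncard_union_le _ _) _))
    rintro u ⟨huR, hu2⟩
    by_cases hu1 : u = 1
    · exact Or.inl (Or.inl (hu1 ▸ one_mem E))
    rcases hclass u hu2 hu1 with hc | hb
    · by_cases hux : Commute x u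
      · exact Or.inl (Or.inl (hmem.2 (Or.inr ⟨hc, hRp u huR, hux⟩)))
      · exact Or.inl (Or.inr ⟨huR, hc, hux⟩)
    · exact Or.inr ⟨huR, hb⟩
  rw [e1, ← hm] at hA
  have hA' : A.ncard ≤ q * j * a := by
    have e3 : (2 ^ β * j + 1) * (2 ^ β - 1) = q * j * a + a := by
      rw [← hq, show q - 1 = a by omega]; ring
    omega
  have hbig : q * (q ^ 2 + q) ≤ q * (1 + j * a + i) := by
    have e4 : q * (1 + j * a + i) = q + q * j * a + q * i := by ring
    omega
  have := Cube.count_arith hq4 (hβ : a + 1 = q) hiq hj harith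
  have := Nat.le_of_mul_le_mul_left hbig (by omega)
  omega

end CfsgLib.SECrit
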