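import Cfsg.Agent.Lib.Invol.SECriterion.Cube.Regular
import Cfsg.Agent.Lib.Invol.SECriterion.Transfer
import Cfsg.Agent.Lib.Invol.SECriterion.SmallType.Basic

/-!
# The exit of the type `q ^ 3`: a Sylow two-group whose bad involutions lie in one coset of the line

A character of the Sylow group trivial on the line and `-1` at `x` has a transfer which is `-1` at `x`
and trivial at the conjugates of `z`.
-/

set_option autoImplicit false
set_option linter.style.haveILetI false

namespace CfsgLib.SECrit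

open CfsgLib.Invol Subgroup

universe u

variable {G : Type u} [Group G]

/-- A character that is trivial on a subgroup containing the squares and `-1` at an involution outside. -/
theorem exists_char_neg [Finite G] {E R : Subgroup G} (hER : E ≤ R) {x : G} (hxR : x ∈ R)
    (hx2 : x * x = 1) (hxE : x ∉ E) (hcomm : ∀ e ∈ E, ∀ g ∈ R, Commute e g)
    (hsq : ∀ g ∈ R, g * g ∈ E) :
    ∃ χ : R →* ℤˣ, (∀ g : R, (g : G) ∈ E → χ g = 1) ∧ χ ⟨x, hxR⟩ = -1 := by
  classical
  haveI : Nonempty {K : Subgroup G // E ≤ K ∧ K ≤ R ∧ x ∉ K} := ⟨⟨E, le_rfl, hER, hxE⟩⟩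
  obtain ⟨⟨K, hEK, hKR, hxK⟩, hmax⟩ := Finite.exists_max
    (fun K : {K : Subgroup G // E ≤ K ∧ K ≤ R ∧ x ∉ K} => Nat.card K.1)
  -- commutators of `R` lie in `E`
  have hder : ∀ a ∈ R, ∀ b ∈ R, a * b * a⁻¹ * b⁻¹ ∈ E := by
    intro a ha b hb
    have e1 : a * b * a⁻¹ * b⁻¹ = (a * b) * (a * b) * (b⁻¹ * (a * a)⁻¹ * b) * (b * b)⁻¹ := by group
    rw [e1]
    refine mul_mem (mul_mem (hsq _ (mul_mem ha hb)) ?_) (inv_mem (hsq b hb))
    rw [mul_assoc, (hcomm _ (inv_mem (hsq a ha)) b hb).eq, inv_mul_cancel_left]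
    exact inv_mem (hsq a ha)
  have hnorm : ∀ g ∈ R, ∀ k ∈ K, g * k * g⁻¹ ∈ K := fun g hg k hk => by
    have := mul_mem (hEK (hder g hg k (hKR hk))) hk
    rwa [inv_mul_cancel_right] at this
  have hdich : ∀ g ∈ R, g ∈ K ∨ x * g ∈ K := by
    intro g hg
    by_contra hno
    push Not at hno
    obtain ⟨hgK, hxgK⟩ := hno
    let K' : Subgroup G :=
      { carrier := {u | u ∈ K ∨ g * u ∈ K}
        one_mem' := Or.inl (one_mem K)
        mul_mem' := by
          rintro u v (hu | hu) (hv | hv)
          · exact Or.inl (mul_mem hu hv)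
          · refine Or.inr ?_
            have := mul_mem (hnorm g hg u hu) hv
            simpa [mul_assoc] using this
          · exact Or.inr (by simpa [mul_assoc] using mul_mem hu hv)
          · refine Or.inl ?_
            have h1 : (g * g)⁻¹ * (g * (g * u) * g⁻¹) * (g * v) ∈ K :=
              mul_mem (mul_mem (inv_mem (hEK (hsq g hg))) (hnorm g hg _ hu)) hv
            simpa [mul_assoc] using h1
        inv_mem' := by
          rintro u (hu | hu)
          · exact Or.inl (inv_mem hu)
          · refine Or.inr ?_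
            have h1 : g * (g * u)⁻¹ * g⁻¹ * (g * g) ∈ K :=
              mul_mem (hnorm g hg _ (inv_mem hu)) (hEK (hsq g hg))
            simpa [mul_assoc] using h1 }
    have hK'R : K' ≤ R := by
      rintro u (hu | hu)
      · exact hKR hu
      · simpa using mul_mem (inv_mem hg) (hKR hu)
    have hxK' : x ∉ K' := by
      rintro (h1 | h1)
      · exact hxK h1
      · exact hxgK (by simpa [mul_assoc] using mul_mem (hEK (hder x hxR g hg)) h1)
    have hlt : K < K' := lt_of_le_of_ne (fun u hu => Or.inl hu) fun e =>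
      hgK (e ▸ (Or.inr (hEK (hsq g hg)) : g ∈ K'))
    have h2 := hmax ⟨K', hEK.trans hlt.le, hK'R, hxK'⟩
    exact hlt.ne (Subgroup.eq_of_le_of_card_ge hlt.le h2)
  let χ : R →* ℤˣ :=
    { toFun := fun g => if (g : G) ∈ K then 1 else -1
      map_one' := if_pos (one_mem K)
      map_mul' := fun a b => by
        have key : ∀ g : R, (g : G) ∉ K → x * (g : G) ∈ K := fun g hg => (hdich g g.2).resolve_left hg
        by_cases ha : (a : G) ∈ K <;> by_cases hb : (b : G) ∈ K
        · simp [ha, hb, mul_mem ha hb]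
        · have : (a : G) * (b : G) ∉ K := fun h1 => hb (by simpa using mul_mem (inv_mem ha) h1)
          simp [ha, hb, this]
        · have : (a : G) * (b : G) ∉ K := fun h1 => ha (by simpa using mul_mem h1 (inv_mem hb))
          simp [ha, hb, this]
        · have : (a : G) * (b : G) ∈ K := by
            have h1 := mul_mem (hnorm x hxR _ (key a ha)) (key b hb)
            simpa [mul_assoc, ← mul_assoc x x, hx2] using h1
          simp [ha, hb, this] }
  exact ⟨χ, fun g hg => if_pos (hEK hg), if_neg hxK⟩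

variable [Finite G] {M : Subgroup G} {z : G}

/-- **The transfer exit.** A Sylow two-group centralising the line, with squares in the line and all bad
involutions in the coset of `x` by the line, does not occur in a generated group. -/
theorem Setup.false_of_sylow_coset (h : Setup M z) (hgen : normalClosure ({z} : Set G) = ⊤) {x : G}
    (hl : Local M z x) (hx : IsBad M x) {p : G ⧸ M} (hxp : x • p = p) {R : Subgroup G} (hodd : Odd R.index)
    (hER : lineGrp z x p ≤ R) (hxR : x ∈ R) (hcomm : ∀ e ∈ lineGrp z x p, ∀ g ∈ R, Commute e g)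
    (hsq : ∀ g ∈ R, g * g ∈ lineGrp z x p)
    (hinv : ∀ g ∈ R, g * g = 1 → IsBad M g → x * g ∈ lineGrp z x p) : False := by
  classical
  haveI : Fact (Nat.Prime 2) := ⟨Nat.prime_two⟩
  haveI : R.FiniteIndex := ⟨index_ne_zero_of_finite⟩
  have hnz : ¬ IsConj z x := fun e => by
    obtain ⟨-, a, b, hab, ha, hb⟩ := hx
    exact hab (h.crit.fix_unique e ha hb)
  have hxE : x ∉ lineGrp z x p := fun e =>
    ((h.mem_lineGrp hl).1 e).elim (invol_ne_one hx.1) fun e1 => hnz e1.1
  have hx2 : x * x = 1 := invol_mul_self hx.1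
  obtain ⟨χ, hχE, hχx⟩ := exists_char_neg hER hxR hx2 hxE hcomm hsq
  -- the transfer at a bad involution
  have hval : ∀ y : G, IsBad M y → MonoidHom.transfer χ y = -1 := by
    intro y hy
    have hε : ∀ g : G, ∀ hm : g⁻¹ * y * g ∈ R, χ ⟨g⁻¹ * y * g, hm⟩ = -1 := by
      intro g hm
      obtain ⟨hyo, a, b, hab, hya, hyb⟩ := hy
      have hgo : orderOf (g⁻¹ * y * g) = 2 := by simpa using invol_conj hyo g⁻¹
      have hbad : IsBad M (g⁻¹ * y * g) := ⟨hgo, g⁻¹ • a, g⁻¹ • b,
        fun e => hab (smul_left_cancel g⁻¹ e), by rw [mul_smul, mul_smul, smul_inv_smul, hya],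
        by rw [mul_smul, mul_smul, smul_inv_smul, hyb]⟩
      have hE : (((⟨x, hxR⟩ : R) * ⟨g⁻¹ * y * g, hm⟩ : R) : G) ∈ lineGrp z x p :=
        hinv _ hm (invol_mul_self hgo) hbad
      have h1 := hχE _ hE
      rw [map_mul, hχx, neg_one_mul, neg_eq_iff_eq_neg] at h1
      exact h1
    rw [transfer_invol χ hy.1 (-1) hε, Odd.neg_one_pow]
    have hmod := (Crit.isPGroup_zpowers_invol hy.1).card_modEq_card_fixedPoints (G ⧸ R)
    have e : Nat.card {a : G ⧸ R // y • a = a} = Nat.card (MulAction.fixedPoints (zpowers y) (G ⧸ R)) :=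
      Nat.card_congr (Equiv.subtypeEquivRight fun a =>
        ⟨fun ha g => Crit.forall_zpowers_fix ha g g.2, fun ha => ha ⟨y, mem_zpowers y⟩⟩)
    rw [e, Nat.odd_iff, ← hmod, ← Nat.odd_iff]
    exact hodd
  obtain ⟨d, hd, hdp, hxd⟩ := h.crit.exists_commuting_invol hx.1 hxp
  have hne : x ≠ d := fun e => hnz (e ▸ hd)
  have hdo := h.crit.orderOf_conj hd
  have hbad : IsBad M (x * d) := by
    refine ⟨Small.mul_conj_invol hx.1 hdo hxd hne, ?_⟩
    by_contra hno
    push Not at hno
    have hc : IsConj z (x * d) := h.crit.isConj_of_unique_fix h.hfree (Small.mul_conj_invol hx.1 hdo hxd hne)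
      fun a b ha hb => by_contra fun hab => hno a b hab ha hb
    have := h.isConj_mul hc hd (hxd.mul_left (Commute.refl d)) fun e =>
      invol_ne_one hx.1 (by simpa using congrArg (· * d⁻¹) e)
    rw [mul_assoc, invol_mul_self hdo, mul_one] at this
    exact hnz this
  have hVx := hval x hx
  have hVd : MonoidHom.transfer χ d = 1 := by
    have := hval _ hbad
    rw [map_mul, hVx] at this
    simpa using this
  have hVz : MonoidHom.transfer χ z = 1 := by
    obtain ⟨g, rfl⟩ := isConj_iff.1 hd
    rwa [map_mul, map_mul, map_inv, mul_inv_cancel_comm] at hVd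
  have hker : (MonoidHom.transfer χ).ker = ⊤ := top_le_iff.1
    (hgen ▸ normalClosure_le_normal (Set.singleton_subset_iff.2 hVz))
  have hx1 : MonoidHom.transfer χ x = 1 := MonoidHom.mem_ker.1 (hker ▸ mem_top x)
  rw [hVx] at hx1
  exact absurd hx1 (by decide)

end CfsgLib.SECrit
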