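import Cfsg.Agent.Lib.Invol.SECriterion.Assembly
import Cfsg.Agent.Lib.Invol.SECriterion.Cube.Coset
import Cfsg.Agent.Lib.Invol.SECriterion.Cube.Count

/-!
# The strong embedding criterion: no small type with `q ^ 3 + 1` fixed points
-/

set_option autoImplicit false
set_option linter.style.haveILetI false

namespace CfsgLib.SECrit

open CfsgLib.Invol Subgroup

universe u

variable {G : Type u} [Group G] [Finite G] {M : Subgroup G} {z : G}

/-- The cube type is impossible if `x` is the only two-element of a two point stabilizer centralizing it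
and does not lie in the regular group. -/
theorem Setup.cube_false_of_kernel (h : Setup M z) (hgen : normalClosure ({z} : Set G) = ⊤)
    (hloc : ∀ x : G, IsBad M x → Local M z x) {x : G} (hx : IsBad M x) {p : G ⧸ M} (hxp : x • p = p)
    (ha : 2 ≤ Nat.card (CAt z ({x} : Set G) p)) (hlt : Nat.card (CAt z ({x} : Set G) p) < deg M z)
    {β : ℕ} (hβ : Nat.card (CAt z ({x} : Set G) p) + 1 = 2 ^ β) (hβ2 : 2 ≤ β)
    (hk : Nat.card {c : G ⧸ M // x • c = c} = 2 ^ (β * 3) + 1)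
    {q₀ : G ⧸ M} (hq₀ : q₀ ≠ p) (hxq₀ : x • q₀ = q₀) {P : Subgroup G} (hP : IsPGroup 2 P)
    (hPx : P ≤ twoPt x p q₀)
    (hmax : ∀ (T : Subgroup G) (c : G ⧸ M), IsPGroup 2 T → c ≠ p → (∀ g ∈ T, g • p = p ∧ g • c = c) →
      Nat.card T ≤ Nat.card P)
    (htwo : ∀ (g : G) (k : ℕ), g ^ 2 ^ k = 1 → g ∈ twoPt x p q₀ → g = 1 ∨ g = x)
    (hnot : ∀ Q : Subgroup G, RegData M z x p Q → x ∉ Q) : False := by
  obtain ⟨Q, hQ⟩ := h.exists_regData (hloc x hx) hx hxp hβ hβ2 hk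
  obtain ⟨R, hR, hRp, hxR, hER, hRE, hsq, hcnt, hRmax, htrans⟩ :=
    h.exists_coset_group hloc hx hxp hq₀ hxq₀ hβ hβ2 hQ htwo (hnot Q hQ)
  exact h.cube_false_of_coset hgen hloc hx hxp ha hlt hβ hβ2 hk hq₀ hxq₀ hP hPx hmax hR hRp hxR hER hRE hsq
    hcnt hRmax htrans

end CfsgLib.SECrit
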