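import Cfsg.Agent.Lib.Invol.SECriterion.Cube.Arith
import Cfsg.Agent.Lib.Invol.SECriterion.SmallCount
import Cfsg.Agent.Lib.Invol.SECriterion.ResOfA
import Cfsg.Agent.Lib.Invol.SECriterion.Shape.Local
import Cfsg.Agent.Lib.Invol.SECriterion.SmallType.Large

/-!
# The strong embedding criterion: the small type with `q ^ 3 + 1` fixed points is uniform

If the members at a point commute, this type is that of `SmallType/Large`, which does not occur.  A bad
involution at the point centralizing at least as many members therefore centralizes as many, and has as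
many fixed points: the two expressions for the number of points agree only then.
-/

set_option autoImplicit false
set_option linter.unusedSectionVars false

namespace CfsgLib.SECrit

open CfsgLib.Invol Subgroup

universe u

variable {G : Type u} [Group G] [Finite G] {M : Subgroup G} {z : G}
variable (h : Setup M z) (hgen : normalClosure ({z} : Set G) = ⊤)
  (hloc : ∀ x : G, IsBad M x → Local M z x) {x : G} (hx : IsBad M x) {p : G ⧸ M} (hxp : x • p = p)
  (ha : 2 ≤ Nat.card (CAt z ({x} : Set G) p)) (hlt : Nat.card (CAt z ({x} : Set G) p) < deg M z)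
  {β : ℕ} (hβ : Nat.card (CAt z ({x} : Set G) p) + 1 = 2 ^ β) (hβ2 : 2 ≤ β)
  (hk : Nat.card {c : G ⧸ M // x • c = c} = 2 ^ (β * 3) + 1)

include h hgen hloc hx hxp ha hlt hβ hβ2 hk

/-- **(A) is false in this type.** -/
theorem Setup.false_of_comm_cube
    (hA : ∀ d e : G, IsConj z d → IsConj z e → d • p = p → e • p = p → Commute d e) : False := by
  have hA' : ∀ (d e : G) (q : G ⧸ M), IsConj z d → IsConj z e → d • q = q → e • q = q → Commute d e := by
    intro d e q hd he hdq heq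
    obtain ⟨g, hg⟩ := MulAction.exists_smul_eq G q p
    have hfix : ∀ c : G, c • q = q → (g * c * g⁻¹) • p = p := fun c hc => by
      rw [← hg, smul_smul, inv_mul_cancel_right, mul_smul, hc]
    exact (Commute.conj_iff g).1 (hA _ _ (hd.trans (isConj_iff.2 ⟨g, rfl⟩)) (he.trans (isConj_iff.2 ⟨g, rfl⟩))
      (hfix d hdq) (hfix e heq))
  have hres := h.res_of_comm hgen hloc hA'
  have hbad : Small.Bad z x := ⟨hx.1, fun hc => by
    obtain ⟨-, r, s, hrs, hr, hs⟩ := hx
    exact hrs (h.crit.fix_unique hc hr hs)⟩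
  refine (hres.uni_of_small hbad hxp hlt ha).false_large hbad hxp ?_
  show Nat.card {c : G ⧸ M // x • c = c} ≠ _
  rw [hk]
  have : 2 ^ β < 2 ^ (β * 3) := Nat.pow_lt_pow_right one_lt_two (by omega)
  change 2 ^ (β * 3) + 1 ≠ Nat.card (CAt z ({x} : Set G) p) + 2
  omega

/-- No bad involution at the point centralizes all members. -/
theorem Setup.cube_lt {y : G} (hy : IsBad M y) (_hyp : y • p = p) :
    Nat.card (CAt z ({y} : Set G) p) < deg M z := by
  have hle : Nat.card (CAt z ({y} : Set G) p) ≤ deg M z := by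
    rw [← card_DAt (z := z) p]
    exact Nat.card_le_card_of_injective (fun d => (⟨d.1, d.2.1, d.2.2.1⟩ : DAt z p))
      fun c c' hcc => Subtype.ext (congrArg (fun d : DAt z p => d.1) hcc)
  refine hle.lt_or_eq.resolve_right fun heq => ?_
  have hfull : Function.Bijective fun d : CAt z ({y} : Set G) p => (⟨d.1, d.2.1, d.2.2.1⟩ : DAt z p) :=
    (Nat.bijective_iff_injective_and_card _).2 ⟨fun c c' hcc =>
      Subtype.ext (congrArg (fun d : DAt z p => d.1) hcc), by rw [card_DAt]; exact heq⟩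
  have hall : ∀ c : G, IsConj z c → c • p = p → Commute y c := fun c hc hcp => by
    obtain ⟨w, hw⟩ := hfull.2 ⟨c, hc, hcp⟩
    rw [show c = w.1 from (congrArg (fun t : DAt z p => t.1) hw).symm]
    exact w.2.2.2 y rfl
  exact h.false_of_comm_cube hgen hloc hx hxp ha hlt hβ hβ2 hk fun d e hd he hdp hep =>
    (hloc y hy).comm_at d e p hd he (hall d hd hdp) (hall e he hep) hdp hep

variable {q₀ : G ⧸ M} (hq₀ : q₀ ≠ p) (hxq₀ : x • q₀ = q₀) {P : Subgroup G} (hP : IsPGroup 2 P)
  (hPx : P ≤ twoPt x p q₀)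
  (hmax : ∀ (T : Subgroup G) (c : G ⧸ M), IsPGroup 2 T → c ≠ p → (∀ g ∈ T, g • p = p ∧ g • c = c) →
    Nat.card T ≤ Nat.card P)

include hq₀ hxq₀ hP hPx hmax

/-- **Uniformity**: a bad involution at the point centralizing at least as many members as `x`
centralizes as many and fixes as many points. -/
theorem Setup.cube_uniform {y : G} (hy : IsBad M y) (hyp : y • p = p)
    (hle : Nat.card (CAt z ({x} : Set G) p) ≤ Nat.card (CAt z ({y} : Set G) p)) :
    Nat.card (CAt z ({y} : Set G) p) = Nat.card (CAt z ({x} : Set G) p) ∧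
      Nat.card {c : G ⧸ M // y • c = c} = 2 ^ (β * 3) + 1 := by
  classical
  have hay : 2 ≤ Nat.card (CAt z ({y} : Set G) p) := le_trans ha hle
  have hlty := h.cube_lt hgen hloc hx hxp ha hlt hβ hβ2 hk hy hyp
  obtain ⟨i, j, hi, -, hjm, hN, harith⟩ :=
    h.exists_arith hloc hx hxp ha hq₀ hxq₀ hP hPx hmax hβ hk (by omega) hlt
  obtain ⟨γ, hγ⟩ := h.exists_card_CAt_pow hloc hy hyp hay
  obtain ⟨d, e, hd, he, hyd, hye, hde, hne⟩ := h.exists_pair_of_two hloc hy hyp hay
  obtain ⟨c₀, hc₀p, hyc₀⟩ : ∃ c : G ⧸ M, c ≠ p ∧ y • c = c := by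
    obtain ⟨-, r, s, hrs, hr, hs⟩ := hy
    by_cases hrp : r = p
    · exact ⟨s, fun e => hrs (hrp.trans e.symm), hs⟩
    · exact ⟨r, hrp, hr⟩
  obtain ⟨k, hky⟩ := (hloc y hy).card_fix ⟨d, e, hd, he, hyd, hye, hde, hne⟩ hc₀p.symm hyp hyc₀
  have hshape := h.fix_shape (hloc y hy) hy hyp hay hγ hky
  obtain ⟨R, hRm, hRN⟩ := h.exists_swap_count hloc hx hxp ha
  obtain ⟨R', hRm', hRN'⟩ := h.exists_swap_count hloc hy hyp hay
  set a := Nat.card (CAt z ({x} : Set G) p) with hadef
  set b := Nat.card (CAt z ({y} : Set G) p) with hbdef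
  set m := deg M z with hmdef
  set N := Nat.card (G ⧸ M) with hNdef
  rw [hk, Nat.add_sub_cancel] at hRN
  rw [hky, Nat.add_sub_cancel] at hRN'
  have hfN : 2 ^ (β * 3) + 1 ≤ N := hk ▸ Nat.card_le_card_of_injective _ Subtype.val_injective
  have hfN' : 2 ^ k + 1 ≤ N := hky ▸ Nat.card_le_card_of_injective _ Subtype.val_injective
  obtain ⟨A, hA⟩ := Nat.exists_eq_add_of_le hfN
  obtain ⟨B, hB⟩ := Nat.exists_eq_add_of_le hfN'
  rw [hA, Nat.add_sub_cancel_left] at hRN
  rw [hB, Nat.add_sub_cancel_left] at hRN'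
  have e1 : A * m = 2 ^ (β * 3) * (2 ^ (β * 3) + 1) * a ^ 2 := by
    calc A * m = A * R * a := by rw [← hRm]; ring
      _ = _ := by rw [hRN]; ring
  have e2 : B * m = 2 ^ k * (2 ^ k + 1) * b ^ 2 := by
    calc B * m = B * R' * b := by rw [← hRm']; ring
      _ = _ := by rw [hRN']; ring
  have he' : 2 ^ k * (2 ^ k + 1) * b ^ 2 + 2 ^ k * m =
      2 ^ (β * 3) * (2 ^ (β * 3) + 1) * a ^ 2 + 2 ^ (β * 3) * m := by
    rw [← e1, ← e2, ← add_mul, ← add_mul]
    congr 1
    omega
  -- `r ≤ f`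
  have hr : 2 ^ β * j + 1 ≤ 2 ^ (β * 3) + 1 := by
    have h1 : 2 ^ β ≤ 2 ^ β * i := Nat.le_mul_of_pos_right _ hi
    have h2 : (2 ^ β * j + 1) * a ≤ (2 ^ β * j + 1) * (2 ^ β * i - 1) := Nat.mul_le_mul_left _ (by omega)
    refine Nat.le_of_mul_le_mul_right ?_ (show 0 < a by omega)
    calc (2 ^ β * j + 1) * a ≤ (2 ^ β * j + 1) * (2 ^ β * i - 1) := h2
      _ = (2 ^ (β * 3) + 1) * a := by
        have h3 : (2 ^ (β * 3) + 1) * 2 ^ β = (2 ^ (β * 3) + 1) * a + (2 ^ (β * 3) + 1) := by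
          rw [← hβ]; ring
        omega
  obtain ⟨h1, h2⟩ := Cube.uniform hβ hβ2 hγ hle hshape
    (by rw [← hjm, ← hβ, Nat.add_sub_cancel]) hr he'
  exact ⟨h1, by rw [hky, h2]⟩

end CfsgLib.SECrit
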